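import Cfsg.Agent.Lib.SteinbergPolar.Norm
import Cfsg.Agent.Lib.CT.Induced

/-!
The Steinberg sum is, up to sign, an irreducible character.
-/

set_option autoImplicit false
set_option linter.unusedSectionVars false
set_option linter.style.haveILetI false
set_option maxHeartbeats 800000

namespace Cfsg.Agent.StPolar

universe u

open scoped ComplexConjugate

variable {F V : Type*} [Field F] [AddCommGroup V] [Module F V] [Finite V] [Fintype (Submodule F V)]

open scoped Classical in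
theorem sum_swapC {H : Type u} [Group H] [Fintype H] {α : Type*} (s : Finset α) (K : α → Subgroup H)
    (φ : H → α → ℂ) :
    ∑ h, ∑ y ∈ s.filter (fun y => h ∈ K y), φ h y = ∑ y ∈ s, ∑ h : K y, φ h y := by
  simp only [Finset.sum_filter]
  rw [Finset.sum_comm]
  refine Finset.sum_congr rfl fun y _ => ?_
  rw [← Finset.sum_filter]
  exact Finset.sum_subtype _ (fun h => by simp) _

theorem mu_conj {H : Type u} [Group H] (ρ : H →* (V ≃ₗ[F] V)) (g h : H) {T : Submodule F V}
    (hT : Stb (lm ρ h) T) :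
    mu (lm ρ (g * h * g⁻¹)) ⊥ (T.map (lm ρ g)) = mu (lm ρ h) ⊥ T := by
  have hinj : Function.Injective (lm ρ g) := (ρ g).injective
  have key : ∀ Y : Submodule F V, Stb (lm ρ h) Y → Stb (lm ρ (g * h * g⁻¹)) (Y.map (lm ρ g)) := by
    rintro Y hY _ ⟨y, hy, rfl⟩
    exact ⟨lm ρ h y, hY y hy, by rw [lm_mul, lm_mul, lm_inv]⟩
  have key' : ∀ Y : Submodule F V, Stb (lm ρ (g * h * g⁻¹)) Y → Stb (lm ρ h) (Y.comap (lm ρ g)) := by
    intro Y hY y hy
    show lm ρ g (lm ρ h y) ∈ Y
    have := hY _ hy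
    rwa [lm_mul, lm_mul, lm_inv] at this
  refine (mu_congr (fun Y => Y.map (lm ρ g)) (fun Y => Y.comap (lm ρ g)) hT bot_le (Submodule.map_bot _)
    stb_bot (T' := T.map (lm ρ g))
    (fun Y hY _ h2 => ⟨key Y hY, bot_le, Submodule.map_mono h2, Submodule.comap_map_eq_of_injective hinj Y⟩)
    (fun Y hY _ h2 => ⟨key' Y hY, bot_le, ?_, ?_⟩)
    (fun _ _ h => Submodule.map_mono h) (fun _ _ h => Submodule.comap_mono h)).symm
  · have := Submodule.comap_mono (f := lm ρ g) h2
    rwa [Submodule.comap_map_eq_of_injective hinj] at this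
  · exact Submodule.map_comap_eq_self (by
      rw [LinearMap.range_eq_top.2 (ρ g).surjective]
      exact le_top)

/-- The invariant sums over stabilisers give integers. -/
theorem int_mu : ∀ (n : ℕ) (T : Submodule F V) {H : Type u} [Group H] [Fintype H] (ρ : H →* (V ≃ₗ[F] V)),
    Module.finrank F T = n → (∀ h : H, Stb (lm ρ h) T) → ∀ {ψ : H → ℂ}, IsCharacter H ψ →
      ∃ z : ℤ, ∑ h, (mu (lm ρ h) ⊥ T : ℂ) * conj (ψ h) = (Fintype.card H : ℂ) * z := by
  intro n
  induction n using Nat.strong_induction_on with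
  | _ n ih =>
    intro T H _ _ ρ hn hT ψ hψ
    classical
    haveI : Module.Finite F V := Module.Finite.of_finite
    by_cases hT0 : T = ⊥
    · subst hT0
      have h1 : IsCharacter H (fun _ => (1 : ℂ)) := CT.isCharacter_one
      obtain ⟨m, hm⟩ := CT.classInner_character_nat h1 hψ
      refine ⟨m, ?_⟩
      simp only [mu_self, Int.cast_one]
      rw [classInner, Nat.card_eq_fintype_card,
        inv_mul_eq_iff_eq_mul₀ (Nat.cast_ne_zero.2 Fintype.card_ne_zero)] at hm
      rw [hm]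
      simp
    letI := subAct ρ
    set s := Finset.univ.filter fun Y : Submodule F V => Y < T with hs
    have h1 : ∀ h : H, (mu (lm ρ h) ⊥ T : ℂ) * conj (ψ h) =
        -∑ Y ∈ s.filter (fun Y => h ∈ stabS ρ Y), (mu (lm ρ h) ⊥ Y : ℂ) * conj (ψ h) := by
      intro h
      rw [mu_of_ne hT0, Int.cast_neg, Int.cast_sum, neg_mul, Finset.sum_mul]
      congr 1
      refine Finset.sum_congr ?_ fun _ _ => rfl
      ext Y
      simp [hs, mem_stabS, and_comm]
    have h2 : ∀ Y : Submodule F V, ∃ z : ℤ, Y < T →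
        ∑ h : stabS ρ Y, (mu (lm ρ (h : H)) ⊥ Y : ℂ) * conj (ψ h) = (Nat.card (stabS ρ Y) : ℂ) * z := by
      intro Y
      by_cases hY : Y < T
      · obtain ⟨z, hz⟩ := ih _ (hn ▸ Submodule.finrank_lt_finrank_of_lt hY) Y (ρ.comp (stabS ρ Y).subtype) rfl
          (fun h => (mem_stabS ρ).1 h.2) (ψ := fun h : stabS ρ Y => ψ h) (CT.isCharacter_comp (stabS ρ Y).subtype hψ)
        exact ⟨z, fun _ => by rw [Nat.card_eq_fintype_card]; exact hz⟩
      · exact ⟨0, fun h => absurd h hY⟩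
    choose z hz using h2
    rw [Finset.sum_congr rfl fun h _ => h1 h, Finset.sum_neg_distrib, sum_swapC,
      Finset.sum_congr rfl fun Y hY => hz Y (Finset.mem_filter.1 hY).2]
    have hinv : ∀ h : H, ∀ Y ∈ s, h • Y ∈ s := by
      intro h Y hY
      have hY' := (Finset.mem_filter.1 hY).2
      have e : h • T = T := (smul_eq_iff ρ h T).2 (hT h)
      refine Finset.mem_filter.2 ⟨Finset.mem_univ _, lt_of_le_of_ne ?_ fun e' => hY'.ne ?_⟩
      · calc h • Y ≤ h • T := Submodule.map_mono hY'.le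
          _ = T := e
      · exact MulAction.injective h (e'.trans e.symm)
    obtain ⟨t, ht⟩ := sum_stab_dvd (H := H) s hinv z fun g Y hY => by
      have hY1 := (Finset.mem_filter.1 hY).2
      have hY2 := (Finset.mem_filter.1 (hinv g Y hY)).2
      have hcard : Nat.card (stabS ρ (g • Y)) = Nat.card (stabS ρ Y) := by
        show Nat.card (MulAction.stabilizer H (g • Y)) = Nat.card (MulAction.stabilizer H Y)
        rw [MulAction.stabilizer_smul_eq_stabilizer_map_conj]
        exact Subgroup.card_map_of_injective (MulEquiv.injective _)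
      have e : ∑ h : stabS ρ Y, (mu (lm ρ (h : H)) ⊥ Y : ℂ) * conj (ψ h) =
          ∑ h : stabS ρ (g • Y), (mu (lm ρ (h : H)) ⊥ (g • Y) : ℂ) * conj (ψ h) := by
        refine Fintype.sum_equiv
          { toFun := fun h : stabS ρ Y => (⟨g * h.1 * g⁻¹, by
              show (g * h.1 * g⁻¹) • (g • Y) = g • Y
              rw [mul_smul, mul_smul, inv_smul_smul, show (h.1 : H) • Y = Y from h.2]⟩ : stabS ρ (g • Y))
            invFun := fun h : stabS ρ (g • Y) => (⟨g⁻¹ * h.1 * g, by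
              show (g⁻¹ * h.1 * g) • Y = Y
              rw [mul_smul, mul_smul, show (h.1 : H) • (g • Y) = g • Y from h.2, inv_smul_smul]⟩ : stabS ρ Y)
            left_inv := fun h => Subtype.ext (by simp [mul_assoc])
            right_inv := fun h => Subtype.ext (by simp [mul_assoc]) } _ _ fun h => ?_
        show _ = (mu (lm ρ (g * h.1 * g⁻¹)) ⊥ (Y.map (lm ρ g)) : ℂ) * conj (ψ (g * h.1 * g⁻¹))
        rw [mu_conj ρ g h.1 ((mem_stabS ρ).1 h.2), CT.isClassFunction_of_isCharacter hψ]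
      rw [hz Y hY1, hz (g • Y) hY2, hcard] at e
      exact_mod_cast (mul_left_cancel₀ (Nat.cast_ne_zero.2 Nat.card_pos.ne') e).symm
    refine ⟨-t, ?_⟩
    have ht' : ∑ Y ∈ s, (Nat.card (stabS ρ Y) : ℂ) * (z Y : ℂ) = (Nat.card H : ℂ) * t := by
      exact_mod_cast congrArg (fun x : ℤ => x) ht
    rw [ht', Nat.card_eq_fintype_card]
    push_cast
    ring

namespace Form

variable (f : Form F V) {H : Type u} [Group H] {ρ : H →* (V ≃ₗ[F] V)} {U : Submodule F V}

theorem st_class (hf : f.Full ρ U) (g h : H) : f.st (lm ρ (g * h * g⁻¹)) U = f.st (lm ρ h) U := by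
  refine (f.st_congr (φ := lm ρ g) (hf.2.1 h) (fun v hv => ⟨lm ρ g⁻¹ v, hf.2.1 _ v hv, lm_inv' ρ g v⟩)
    (fun u hu => hf.2.1 g u hu) (fun u _ e => (LinearEquiv.map_eq_zero_iff (ρ g)).1 e)
    (fun u _ v _ => (hf.1 g).1 u v) (fun v _ => (hf.1 g).2 v) fun u _ => ?_).symm
  rw [lm_mul, lm_mul, lm_inv]

/-- The Steinberg sum as a complex function. -/
noncomputable def stC (ρ : H →* (V ≃ₗ[F] V)) (U : Submodule F V) (h : H) : ℂ := (f.st (lm ρ h) U : ℂ)

theorem isGen_stC [Fintype H] (hf : f.Full ρ U) : IsGeneralizedCharacter H (f.stC ρ U) := by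
  classical
  refine CT.isGen_iff.2 ⟨fun g h => by simp only [stC, f.st_class hf h g], fun χ => ?_⟩
  letI := subAct ρ
  have h1 : ∀ h : H, f.stC ρ U h * conj ((χ : H → ℂ) h) =
      ∑ T ∈ (f.tis U).filter (fun T => h ∈ stabS ρ T), (mu (lm ρ h) ⊥ T : ℂ) * conj ((χ : H → ℂ) h) := by
    intro h
    rw [stC, st, stAbove, Int.cast_sum, Finset.sum_mul, f.sing_bot_eq]
  have h2 : ∀ T : Submodule F V, ∃ z : ℤ,
      ∑ h : stabS ρ T, (mu (lm ρ (h : H)) ⊥ T : ℂ) * conj ((χ : H → ℂ) h) = (Nat.card (stabS ρ T) : ℂ) * z := by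
    intro T
    obtain ⟨z, hz⟩ := int_mu _ T (ρ.comp (stabS ρ T).subtype) rfl (fun h => (mem_stabS ρ).1 h.2)
      (ψ := fun h : stabS ρ T => (χ : H → ℂ) h) (CT.isCharacter_comp (stabS ρ T).subtype (CT.isCharacter_of_isIrr χ.2))
    exact ⟨z, by rw [Nat.card_eq_fintype_card]; exact hz⟩
  choose z hz using h2
  have hinv : ∀ h : H, ∀ T ∈ f.tis U, h • T ∈ f.tis U := fun h T hT => f.smul_tis hf h hT
  obtain ⟨t, ht⟩ := sum_stab_dvd (H := H) (f.tis U) hinv z fun g Y hY => by
    have hcard : Nat.card (stabS ρ (g • Y)) = Nat.card (stabS ρ Y) := by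
      show Nat.card (MulAction.stabilizer H (g • Y)) = Nat.card (MulAction.stabilizer H Y)
      rw [MulAction.stabilizer_smul_eq_stabilizer_map_conj]
      exact Subgroup.card_map_of_injective (MulEquiv.injective _)
    have e : ∑ h : stabS ρ Y, (mu (lm ρ (h : H)) ⊥ Y : ℂ) * conj ((χ : H → ℂ) h) =
        ∑ h : stabS ρ (g • Y), (mu (lm ρ (h : H)) ⊥ (g • Y) : ℂ) * conj ((χ : H → ℂ) h) := by
      refine Fintype.sum_equiv
        { toFun := fun h : stabS ρ Y => (⟨g * h.1 * g⁻¹, by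
            show (g * h.1 * g⁻¹) • (g • Y) = g • Y
            rw [mul_smul, mul_smul, inv_smul_smul, show (h.1 : H) • Y = Y from h.2]⟩ : stabS ρ (g • Y))
          invFun := fun h : stabS ρ (g • Y) => (⟨g⁻¹ * h.1 * g, by
            show (g⁻¹ * h.1 * g) • Y = Y
            rw [mul_smul, mul_smul, show (h.1 : H) • (g • Y) = g • Y from h.2, inv_smul_smul]⟩ : stabS ρ Y)
          left_inv := fun h => Subtype.ext (by simp [mul_assoc])
          right_inv := fun h => Subtype.ext (by simp [mul_assoc]) } _ _ fun h => ?_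
      show _ = (mu (lm ρ (g * h.1 * g⁻¹)) ⊥ (Y.map (lm ρ g)) : ℂ) * conj ((χ : H → ℂ) (g * h.1 * g⁻¹))
      rw [mu_conj ρ g h.1 ((mem_stabS ρ).1 h.2),
        CT.isClassFunction_of_isCharacter (CT.isCharacter_of_isIrr χ.2)]
    rw [hz Y, hz (g • Y), hcard] at e
    exact_mod_cast (mul_left_cancel₀ (Nat.cast_ne_zero.2 Nat.card_pos.ne') e).symm
  refine ⟨t, ?_⟩
  rw [classInner, Finset.sum_congr rfl fun h _ => h1 h, sum_swapC, Finset.sum_congr rfl fun T _ => hz T]
  have ht' : ∑ Y ∈ f.tis U, (Nat.card (stabS ρ Y) : ℂ) * (z Y : ℂ) = (Nat.card H : ℂ) * t := by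
    exact_mod_cast congrArg (fun x : ℤ => x) ht
  rw [ht', inv_mul_cancel_left₀ (Nat.cast_ne_zero.2 Nat.card_pos.ne')]

theorem inner_stC [Fintype H] (hU : f.Red U) (hf : f.Full ρ U) :
    classInner (f.stC ρ U) (f.stC ρ U) = 1 := by
  have h := f.st_norm _ U ρ rfl hU hf
  rw [classInner, Nat.card_eq_fintype_card]
  have e : ∑ h, f.stC ρ U h * conj (f.stC ρ U h) = (Fintype.card H : ℂ) := by
    rw [← Int.cast_natCast, ← h, Int.cast_sum]
    refine Finset.sum_congr rfl fun g _ => ?_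
    simp only [stC, map_intCast]
    push_cast
    ring
  rw [e, inv_mul_cancel₀ (Nat.cast_ne_zero.2 Fintype.card_ne_zero)]

theorem irr_signed [Fintype H] (hU : f.Red U) (hf : f.Full ρ U) {ε : ℤ} (hε : ε = 1 ∨ ε = -1)
    (hpos : 0 < ε * f.st (lm ρ 1) U) :
    IsIrrCharacter H (fun h => (ε : ℂ) * f.stC ρ U h) := by
  obtain ⟨hcl, hint⟩ := CT.isGen_iff.1 (f.isGen_stC hf)
  refine CT.isIrr_of_isGen_norm_one (CT.isGen_iff.2 ⟨fun g h => by simp only [hcl g h], fun χ => ?_⟩) ?_ ?_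
  · obtain ⟨m, hm⟩ := hint χ
    refine ⟨ε * m, ?_⟩
    rw [show (fun h => (ε : ℂ) * f.stC ρ U h) = (ε : ℂ) • f.stC ρ U from rfl, CT.classInner_smul_left, hm]
    push_cast; rfl
  · rw [show (fun h => (ε : ℂ) * f.stC ρ U h) = (ε : ℂ) • f.stC ρ U from rfl, CT.classInner_smul_left,
      CT.classInner_smul_right, f.inner_stC hU hf, map_intCast, mul_one, ← Int.cast_mul]
    rcases hε with rfl | rfl <;> simp
  · show 0 < ((ε : ℂ) * (f.st (lm ρ 1) U : ℂ)).re
    rw [← Int.cast_mul, Complex.intCast_re]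
    exact_mod_cast hpos

end Form

end Cfsg.Agent.StPolar
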