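import Cfsg.Agent.Lib.SteinbergPolar.Sum

/-!
The degree of the Steinberg sum is a power of the characteristic, and the sum vanishes at unipotent
elements.
-/

set_option autoImplicit false
set_option linter.unusedSectionVars false
set_option maxHeartbeats 800000

namespace Cfsg.Agent.StPolar

variable {F V : Type*} [Field F] [AddCommGroup V] [Module F V] [Finite V] [Fintype (Submodule F V)]

theorem stb_id (W : Submodule F V) : Stb (LinearMap.id : V →ₗ[F] V) W := fun _ hx => hx

/-- The characteristic two defect of the quadratic function. -/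
def Form.Qdet (f : Form F V) : Prop := ∀ v, f.B v v = 0 → f.Q v = 0

namespace Form

variable (f : Form F V)

theorem iso_id : f.Iso (LinearMap.id : V →ₗ[F] V) := ⟨fun _ _ => rfl, fun _ => rfl⟩

theorem mu_line {g : V →ₗ[F] V} {a : V} (ha : a ≠ 0) : mu g ⊥ (Submodule.span F {a}) = -1 := by
  classical
  have hne : Submodule.span F {a} ≠ (⊥ : Submodule F V) := by simpa using ha
  rw [mu_of_ne hne, Finset.sum_eq_single ⊥ (fun Y hY hne' => ?_) (fun hh => ?_), mu_self]
  · simp only [Finset.mem_filter] at hY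
    have := Submodule.finrank_lt_finrank_of_lt hY.2.2.2
    rw [finrank_span_singleton ha] at this
    haveI : Module.Finite F V := Module.Finite.of_finite
    exact absurd (Submodule.finrank_eq_zero.1 (by omega)) hne'
  · exact absurd (Finset.mem_filter.2 ⟨Finset.mem_univ _, stb_bot, le_rfl, bot_lt_iff_ne_bot.2 hne⟩) hh

/-- Opposites of a point are normalised singular vectors. -/
theorem opps_line {g : V →ₗ[F] V} {U : Submodule F V} {a : V} (ha : a ≠ 0) (haQ : f.Q a = 0) {X : Submodule F V}
    (hX : X ∈ f.opps g (Submodule.span F {a}) U) :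
    ∃ b, b ∈ U ∧ f.Q b = 0 ∧ f.B a b = 1 ∧ X = Submodule.span F {b} := by
  obtain ⟨⟨-, hT, hXU⟩, hopp⟩ := f.mem_opps.1 hX
  obtain ⟨b, hb, hb0, rfl⟩ := line_eq X (((f.exists_pairing hopp).1).symm.trans (finrank_span_singleton ha))
  have hab : f.B a b ≠ 0 := fun e => ha (by
    have : a ∈ Submodule.span F {a} ⊓ f.perp (Submodule.span F {b}) :=
      ⟨Submodule.mem_span_singleton_self a, f.mem_perp_span.2 e⟩
    rwa [hopp.2, Submodule.mem_bot] at this)
  refine ⟨f.sig (f.B a b)⁻¹ • b, Submodule.smul_mem _ _ (hXU hb), by rw [f.Q_smul, hT.1 b hb, mul_zero], ?_, ?_⟩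
  · rw [f.smul_right, f.sig_sig, inv_mul_cancel₀ hab]
  · rw [Submodule.span_singleton_smul_eq (Ne.isUnit ((map_ne_zero f.sig).2 (inv_ne_zero hab)))]

theorem ne_zero_of_pair {a b : V} (h : f.B a b = 1) : a ≠ 0 ∧ b ≠ 0 :=
  ⟨fun e => by rw [e, f.B_zero_left] at h; exact zero_ne_one h,
    fun e => by rw [e, f.B_zero_right] at h; exact zero_ne_one h⟩

theorem frame_one {U : Submodule F V} {a b : V} (ha : a ∈ U) (hb : b ∈ U) (hQa : f.Q a = 0) (hQb : f.Q b = 0)
    (hab : f.B a b = 1) : f.Frame U (fun _ : Fin 1 => a) (fun _ : Fin 1 => b) :=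
  ⟨fun _ => ha, fun _ => hb, fun _ => hQa, fun _ => hQb, fun _ _ => f.self_zero _ hQa,
    fun _ _ => f.self_zero _ hQb, fun i j => by rw [Subsingleton.elim i j, if_pos rfl]; exact hab⟩

theorem mem_inner_one {U : Submodule F V} {a b u : V} :
    u ∈ f.inner U (Submodule.span F {a}) (Submodule.span F {b}) ↔
      u ∈ U ∧ f.Perp₂ (fun _ : Fin 1 => a) (fun _ : Fin 1 => b) u := by
  constructor
  · rintro ⟨⟨h1, h2⟩, h3⟩
    exact ⟨h1, fun _ => f.mem_perp_span.1 h2, fun _ => f.mem_perp_span.1 h3⟩
  · rintro ⟨h1, h2, h3⟩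
    exact ⟨⟨h1, f.mem_perp_span.2 (h2 0)⟩, f.mem_perp_span.2 (h3 0)⟩

theorem st_inner_eq {U : Submodule F V} (hU : f.Red U) {a b b' : V} (ha : a ∈ U) (hb : b ∈ U) (hb' : b' ∈ U)
    (hQa : f.Q a = 0) (hQb : f.Q b = 0) (hQb' : f.Q b' = 0) (hab : f.B a b = 1) (hab' : f.B a b' = 1) :
    f.st LinearMap.id (f.inner U (Submodule.span F {a}) (Submodule.span F {b})) =
      f.st LinearMap.id (f.inner U (Submodule.span F {a}) (Submodule.span F {b'})) := by
  classical
  obtain ⟨φ, hφ, hφa, hφb, -⟩ := (f.frame_one ha hb hQa hQb hab).exists_move f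
    (f.frame_one ha hb' hQa hQb' hab') fun u _ hu i => hu.1 i
  have hinjU : ∀ u ∈ U, φ u = 0 → u = 0 := fun u hu e => by
    refine hU u hu ?_ fun w hw => ?_
    · rw [← hφ.2.2 u hu, e, f.Q_zero]
    · rw [← hφ.2.1 u hu w hw, e, f.B_zero_left]
  refine f.st_congr (φ := φ) (stb_id _) (fun v hv => ?_) (fun u hu => ?_)
    (fun u hu => hinjU u (f.inner_le _ _ _ hu))
    (fun u hu v hv => hφ.2.1 u (f.inner_le _ _ _ hu) v (f.inner_le _ _ _ hv))
    (fun v hv => hφ.2.2 v (f.inner_le _ _ _ hv)) (fun _ _ => rfl)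
  · let e : U → U := fun u => ⟨φ u, hφ.1 u u.2⟩
    obtain ⟨u, hu⟩ := (Finite.injective_iff_surjective.1 (fun x y h => Subtype.ext (sub_eq_zero.1
      (hinjU _ (Submodule.sub_mem _ x.2 y.2) (by rw [map_sub, show φ x = φ y from congrArg Subtype.val h, sub_self])))
      : Function.Injective e)) ⟨v, f.inner_le _ _ _ hv⟩
    have hu' : φ u = v := congrArg Subtype.val hu
    obtain ⟨-, h2, h3⟩ := f.mem_inner_one.1 hv
    refine ⟨u, f.mem_inner_one.2 ⟨u.2, fun i => ?_, fun i => ?_⟩, hu'⟩
    · rw [← hφ.2.1 u u.2 a ha, hu', hφa 0]; exact h2 i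
    · rw [← hφ.2.1 u u.2 b hb, hu', hφb 0]; exact h3 i
  · obtain ⟨h1, h2, h3⟩ := f.mem_inner_one.1 hu
    refine f.mem_inner_one.2 ⟨hφ.1 u h1, fun i => ?_, fun i => ?_⟩
    · show f.B (φ u) a = 0
      conv_lhs => rw [← hφa 0]
      rw [hφ.2.1 u h1 a ha]; exact h2 i
    · show f.B (φ u) b' = 0
      conv_lhs => rw [← hφb 0]
      rw [hφ.2.1 u h1 b hb]; exact h3 i

/-- The number of opposites of a point. -/
theorem card_opps [Finite F] {U : Submodule F V} {a b : V} (ha : a ∈ U) (hb : b ∈ U)
    (hQa : f.Q a = 0) (hQb : f.Q b = 0) (hab : f.B a b = 1) :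
    (f.opps LinearMap.id (Submodule.span F {a}) U).card =
      Nat.card (f.inner U (Submodule.span F {a}) (Submodule.span F {b})) * Nat.card f.tau.ker := by
  classical
  haveI := Fintype.ofFinite V
  haveI := Fintype.ofFinite F
  set U' := f.inner U (Submodule.span F {a}) (Submodule.span F {b}) with hU'
  set S : Finset V := Finset.univ.filter fun x => x ∈ U ∧ f.Q x = 0 ∧ f.B a x = 1 with hS
  have h1 : (f.opps LinearMap.id (Submodule.span F {a}) U).card = S.card := by
    refine (Finset.card_bij (fun x _ => Submodule.span F {x}) (fun x hx => ?_) (fun x hx y hy e => ?_)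
      fun X hX => ?_).symm
    · simp only [hS, Finset.mem_filter, Finset.mem_univ, true_and] at hx
      exact f.mem_opps.2 ⟨⟨stb_id _, f.ti_span hx.2.1, by rw [Submodule.span_singleton_le_iff_mem]; exact hx.1⟩,
        f.opp_span (by rw [hx.2.2]; exact one_ne_zero)⟩
    · simp only [hS, Finset.mem_filter, Finset.mem_univ, true_and] at hx hy
      obtain ⟨c, hc⟩ := Submodule.mem_span_singleton.1
        (show y ∈ Submodule.span F {x} from e ▸ Submodule.mem_span_singleton_self y)
      have : f.sig c = 1 := by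
        have := hy.2.2
        rwa [← hc, f.smul_right, hx.2.2, mul_one] at this
      rw [← hc, ← f.sig_sig c, this, map_one, one_smul]
    · obtain ⟨x, h1, h2, h3, h4⟩ := f.opps_line (f.ne_zero_of_pair hab).1 hQa hX
      exact ⟨x, by simp [hS, h1, h2, h3], h4.symm⟩
  rw [h1]
  let fib : U' → Finset F := fun u => Finset.univ.filter fun c : F => f.tau c = -f.Q (u : V)
  have hfr := f.frame_one ha hb hQa hQb hab
  have hperp : ∀ u : U', f.Perp₂ (fun _ : Fin 1 => a) (fun _ : Fin 1 => b) (u : V) :=
    fun u => (f.mem_inner_one.1 u.2).2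
  have hproj : ∀ x ∈ U, f.proj (fun _ : Fin 1 => a) (fun _ : Fin 1 => b) x ∈ U' := fun x hx =>
    f.mem_inner_one.2 ⟨hfr.proj_mem f hx, hfr.proj_perp f x⟩
  have h2 : S.card = ((Finset.univ : Finset U').sigma fib).card := by
    refine (Finset.card_bij (fun p _ => p.2 • a + b + (p.1 : V)) (fun p hp => ?_) (fun p _ p' _ e => ?_)
      fun x hx => ?_).symm
    · simp only [fib, Finset.mem_sigma, Finset.mem_filter, Finset.mem_univ, true_and] at hp
      simp only [hS, Finset.mem_filter, Finset.mem_univ, true_and]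
      refine ⟨Submodule.add_mem _ (Submodule.add_mem _ (Submodule.smul_mem _ _ ha) hb)
        (f.inner_le _ _ _ p.1.2), ?_, ?_⟩
      · rw [f.Q_add_perp, f.Q_add, f.Q_smul, hQa, hQb, f.smul_left, hab, mul_one, mul_zero, zero_add, zero_add,
          hp, neg_add_cancel]
        rw [f.add_left, f.smul_left, f.B_comm_zero ((hperp p.1).1 0), f.B_comm_zero ((hperp p.1).2 0)]
        simp
      · rw [f.add_right, f.add_right, f.smul_right, f.self_zero a hQa, hab, f.B_comm_zero ((hperp p.1).1 0)]
        simp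
    · have e1 := congrArg (fun x => f.B x b) e
      simp only [f.add_left, f.smul_left, hab, f.self_zero b hQb, (hperp p.1).2 0, (hperp p'.1).2 0, mul_one,
        add_zero] at e1
      have e2 : (p.1 : V) = p'.1 := by
        have := e
        rw [e1] at this
        exact add_left_cancel this
      exact Sigma.ext (Subtype.ext e2) (heq_of_eq e1)
    · simp only [hS, Finset.mem_filter, Finset.mem_univ, true_and] at hx
      have hxd := f.eq_comb (fun _ : Fin 1 => a) (fun _ : Fin 1 => b) x
      have hcb : f.coB (fun _ : Fin 1 => a) x 0 = 1 := by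
        rw [coB, f.flip a x, hx.2.2, map_one, mul_one, inv_mul_cancel₀ f.eps_ne]
      have hx' : x = f.B x b • a + b + f.proj (fun _ : Fin 1 => a) (fun _ : Fin 1 => b) x := by
        conv_lhs => rw [hxd]
        simp [comb, coA, hcb]
      refine ⟨⟨⟨_, hproj x hx.1⟩, f.B x b⟩, ?_, hx'.symm⟩
      simp only [fib, Finset.mem_sigma, Finset.mem_filter, Finset.mem_univ, true_and]
      have hQx := hx.2.1
      conv_lhs at hQx => rw [hxd]
      rw [hfr.Q_comb f _ _ (hfr.proj_perp f x)] at hQx
      simp only [Fin.sum_univ_one, hcb, map_one, mul_one, coA] at hQx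
      exact eq_neg_of_add_eq_zero_left hQx
  rw [h2, Finset.card_sigma]
  have h3 : ∀ u : U', (fib u).card = Nat.card f.tau.ker := by
    intro u
    obtain ⟨c₀, hc₀⟩ := f.trace (u : V)
    rw [← Fintype.card_coe, ← Nat.card_eq_fintype_card]
    exact Nat.card_congr
      { toFun := fun c => ⟨c.1 + c₀, by
          show f.tau _ = 0
          rw [map_add, (Finset.mem_filter.1 c.2).2, hc₀, neg_add_cancel]⟩
        invFun := fun k => ⟨k.1 - c₀, Finset.mem_filter.2 ⟨Finset.mem_univ _, by
          rw [map_sub, k.2, hc₀, zero_sub]⟩⟩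
        left_inv := fun c => Subtype.ext (add_sub_cancel_right _ _)
        right_inv := fun k => Subtype.ext (sub_add_cancel _ _) }
  rw [Finset.sum_congr rfl fun u _ => h3 u, Finset.sum_const, Finset.card_univ, smul_eq_mul,
    Nat.card_eq_fintype_card (α := U')]

/-- The recursion for the degree. -/
theorem deg_rec [Finite F] {U : Submodule F V} (hU : f.Red U) {a b : V} (ha : a ∈ U) (hb : b ∈ U)
    (hQa : f.Q a = 0) (hQb : f.Q b = 0) (hab : f.B a b = 1) :
    f.st LinearMap.id U =
      -((Nat.card (f.inner U (Submodule.span F {a}) (Submodule.span F {b})) * Nat.card f.tau.ker : ℕ) : ℤ) *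
        f.st LinearMap.id (f.inner U (Submodule.span F {a}) (Submodule.span F {b})) := by
  have haU : Submodule.span F {a} ≤ U := by rw [Submodule.span_singleton_le_iff_mem]; exact ha
  rw [f.st_rec f.iso_id Function.injective_id (stb_id U) (stb_id _) (f.ti_span hQa) haU,
    ← f.card_opps ha hb hQa hQb hab]
  rw [Finset.sum_congr rfl fun X hX => show mu LinearMap.id ⊥ X * f.st LinearMap.id (f.inner U (Submodule.span F {a}) X) =
      -f.st LinearMap.id (f.inner U (Submodule.span F {a}) (Submodule.span F {b})) by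
    obtain ⟨x, hx, hQx, hax, rfl⟩ := f.opps_line (f.ne_zero_of_pair hab).1 hQa hX
    rw [mu_line (f.ne_zero_of_pair hax).2, f.st_inner_eq hU ha hb hx hQa hQb hQx hab hax, neg_one_mul]]
  rw [Finset.sum_const, nsmul_eq_mul]
  simp

theorem dvd_ppow {p m k : ℕ} (hp : p.Prime) (h : k ∣ p ^ m) : ∃ j, k = p ^ j := by
  obtain ⟨j, -, hj⟩ := (Nat.dvd_prime_pow hp).1 h
  exact ⟨j, hj⟩

/-- The degree is a power of the characteristic. -/
theorem deg_pow [Finite F] (p : ℕ) [Fact p.Prime] [CharP F p] : ∀ (n : ℕ) (U : Submodule F V),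
    Module.finrank F U = n → f.Red U →
      ∃ ε : ℤ, (ε = 1 ∨ ε = -1) ∧ ∃ j : ℕ, f.st LinearMap.id U = ε * ((p ^ j : ℕ) : ℤ) := by
  intro n
  induction n using Nat.strong_induction_on with
  | _ n ih =>
    intro U hn hU
    classical
    haveI : Module.Finite F V := Module.Finite.of_finite
    haveI := Fintype.ofFinite F
    by_cases hs : ∃ v ∈ U, f.Q v = 0 ∧ v ≠ 0
    swap
    · push Not at hs
      exact ⟨1, Or.inl rfl, 0, by simp [f.st_no_singular hs]⟩
    obtain ⟨a, ha, hQa, ha0⟩ := hs
    obtain ⟨e, he⟩ := f.exists_frame hU (fun _ : Fin 1 => a) (linearIndependent_unique_iff.2 ha0) (fun _ => ha)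
      (by rw [Set.range_const]; exact f.ti_span hQa)
    have hab : f.B a (e 0) = 1 := by have := he.dual 0 0; rwa [if_pos rfl] at this
    have hb := he.mem' 0
    have hQb := he.sing' 0
    have hoppab : f.Opp (Submodule.span F {a}) (Submodule.span F {e 0}) :=
      f.opp_span (by rw [hab]; exact one_ne_zero)
    have haU : Submodule.span F {a} ≤ U := by rw [Submodule.span_singleton_le_iff_mem]; exact ha
    have hbU : Submodule.span F {e 0} ≤ U := by rw [Submodule.span_singleton_le_iff_mem]; exact hb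
    set U' := f.inner U (Submodule.span F {a}) (Submodule.span F {e 0})
    have hlt : U' < U := f.inner_lt (by simpa using (f.ne_zero_of_pair hab).2) hbU hoppab
    obtain ⟨ε, hε, j, hj⟩ := ih _ (hn ▸ Submodule.finrank_lt_finrank_of_lt hlt) U' rfl
      (f.red_inner hU (f.ti_span hQa) (f.ti_span hQb) haU hbU hoppab)
    obtain ⟨f', hp, hF⟩ := FiniteField.card F p
    obtain ⟨j1, hj1⟩ : ∃ j1, Nat.card U' = p ^ j1 := ⟨(f' : ℕ) * Module.finrank F U', by
      rw [Module.natCard_eq_pow_finrank (K := F), Nat.card_eq_fintype_card, hF, ← pow_mul]⟩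
    obtain ⟨j2, hj2⟩ : ∃ j2, Nat.card f.tau.ker = p ^ j2 := dvd_ppow hp (by
      rw [← hF, ← Nat.card_eq_fintype_card]
      exact AddSubgroup.card_addSubgroup_dvd_card _)
    refine ⟨-ε, by rcases hε with rfl | rfl <;> simp, j1 + j2 + j, ?_⟩
    rw [f.deg_rec hU ha hb hQa hQb hab, hj, hj1, hj2]
    push_cast
    ring

/-- The image of `g - 1` on `U`. -/
noncomputable def move (g : V →ₗ[F] V) (U : Submodule F V) : Submodule F V := U.map (g - LinearMap.id)

theorem nilp_stb {g : V →ₗ[F] V} {U : Submodule F V} (hU : Stb g U) (k : ℕ) :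
    ∀ x ∈ U, ((g - LinearMap.id : Module.End F V) ^ k) x ∈ U := by
  induction k with
  | zero => exact fun x hx => by rw [pow_zero]; exact hx
  | succ k ih =>
    intro x hx
    rw [pow_succ']
    show (g - LinearMap.id : V →ₗ[F] V) _ ∈ U
    exact Submodule.sub_mem _ (hU _ (ih x hx)) (ih x hx)

/-- The Steinberg sum vanishes at unipotent elements. -/
theorem st_unipotent : ∀ (n : ℕ) (U : Submodule F V) (g : V →ₗ[F] V), Module.finrank F U = n →
    f.Iso g → Function.Injective g → Stb g U → IsNilpotent (g - LinearMap.id : Module.End F V) →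
    move g U ≠ ⊥ → (f.Qdet ∨ Module.finrank F (move g U) ≠ 1) → f.st g U = 0 := by
  intro n
  induction n using Nat.strong_induction_on with
  | _ n ih =>
    intro U g hn hg hinj hU hnil hmove hgood
    classical
    haveI : Module.Finite F V := Module.Finite.of_finite
    set N : Module.End F V := g - LinearMap.id with hN
    have hN' : ∀ x, N x = g x - x := fun x => rfl
    have hNU : ∀ x ∈ U, N x ∈ U := fun x hx => Submodule.sub_mem _ (hU x hx) hx
    have hfix : ∀ {x}, N x = 0 → g x = x := fun {x} h => sub_eq_zero.1 (by rw [← hN']; exact h)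
    have horth : ∀ x v, N v = 0 → f.B (N x) v = 0 := fun x v hv => by
      rw [hN', f.sub_left, sub_eq_zero]
      conv_lhs => rw [← hfix hv]
      exact hg.1 x v
    -- a fixed singular vector
    obtain ⟨v, hvU, hv0, hvN, hvQ⟩ : ∃ v ∈ U, v ≠ 0 ∧ N v = 0 ∧ f.Q v = 0 := by
      by_cases h2 : ∃ x ∈ U, N (N x) ≠ 0
      · obtain ⟨x, hx, hx2⟩ := h2
        obtain ⟨k, hk⟩ := hnil
        have hex : ∃ j, ((N ^ j : Module.End F V)) x = 0 := ⟨k, by rw [hk]; rfl⟩
        set j := Nat.find hex with hj
        have hj3 : 3 ≤ j := by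
          by_contra hlt
          push Not at hlt
          have h0 := Nat.find_spec hex
          rw [← hj] at h0
          apply hx2
          interval_cases j
          · rw [pow_zero] at h0; rw [show x = 0 from h0]; simp
          · rw [pow_one] at h0; rw [h0, map_zero]
          · rw [pow_two] at h0; exact h0
        obtain ⟨i, hi⟩ : ∃ i, j = i + 3 := ⟨j - 3, by omega⟩
        set z := (N ^ i : Module.End F V) x
        set y := N z
        have hv0 : N y ≠ 0 := by
          have := Nat.find_min hex (m := i + 2) (by omega)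
          rwa [pow_succ', pow_succ'] at this
        have hvN : N (N y) = 0 := by
          have := Nat.find_spec hex
          rw [← hj, hi, pow_succ', pow_succ', pow_succ'] at this
          exact this
        have hzU : z ∈ U := nilp_stb hU i x hx
        refine ⟨N y, hNU _ (hNU _ hzU), hv0, hvN, ?_⟩
        have e : g y = y + N y := by rw [hN', add_sub_cancel]
        have h0 := hg.2 y
        rw [e, f.Q_add, horth z (N y) hvN, map_zero, add_zero] at h0
        exact add_eq_left.1 h0
      · push Not at h2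
        obtain ⟨v, hv, hv0⟩ := Submodule.exists_mem_ne_zero_of_ne_bot hmove
        obtain ⟨x, hx, rfl⟩ := hv
        have hBvv : ∀ y ∈ U, ∀ y' ∈ U, f.B (N y) (N y') = 0 := fun y _ y' hy' => horth y _ (h2 y' hy')
        by_cases hQ : f.Q (N x) = 0
        · exact ⟨_, hNU x hx, hv0, h2 x hx, hQ⟩
        rcases hgood with hd | hr
        · exact absurd (hd _ (hBvv x hx x hx)) hQ
        obtain ⟨w, hw, hwv⟩ : ∃ w ∈ move g U, w ∉ Submodule.span F {N x} := by
          by_contra hc
          push Not at hc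
          refine hr ?_
          have heq : move g U = Submodule.span F {N x} :=
            le_antisymm hc ((Submodule.span_singleton_le_iff_mem _ _).2 (Submodule.mem_map_of_mem hx))
          rw [heq, finrank_span_singleton hv0]
        obtain ⟨x', hx', rfl⟩ := hw
        obtain ⟨c, d, hcd, hQ0⟩ := f.plane (N x) (N x') (hBvv x hx x hx) (hBvv x' hx' x' hx') (hBvv x hx x' hx')
        refine ⟨c • N x + d • N x', Submodule.add_mem _ (Submodule.smul_mem _ _ (hNU x hx))
          (Submodule.smul_mem _ _ (hNU x' hx')), fun e => hcd ?_, ?_, hQ0⟩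
        · by_cases hd0 : d = 0
          · rw [hd0, zero_smul, add_zero] at e
            exact ⟨(smul_eq_zero.1 e).resolve_right hv0, hd0⟩
          · refine absurd (Submodule.mem_span_singleton.2 ⟨-(d⁻¹ * c), ?_⟩) hwv
            show -(d⁻¹ * c) • N x = N x'
            rw [neg_smul, mul_smul, ← smul_neg, ← eq_neg_of_add_eq_zero_right e, inv_smul_smul₀ hd0]
        · rw [map_add, map_smul, map_smul, h2 x hx, h2 x' hx', smul_zero, smul_zero, add_zero]
    have hWs : Stb g (Submodule.span F {v}) := fun y hy => by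
      obtain ⟨c, rfl⟩ := Submodule.mem_span_singleton.1 hy
      rw [map_smul, hfix hvN]
      exact hy
    have hvle : Submodule.span F {v} ≤ U := by rw [Submodule.span_singleton_le_iff_mem]; exact hvU
    rw [f.st_rec hg hinj hU hWs (f.ti_span hvQ) hvle]
    refine Finset.sum_eq_zero fun X hX => ?_
    obtain ⟨b, hbU, hQb, hab, rfl⟩ := f.opps_line hv0 hvQ hX
    obtain ⟨⟨hXs, -, -⟩, hopp⟩ := f.mem_opps.1 hX
    have hNb : N b = 0 := by
      obtain ⟨c, hc⟩ := Submodule.mem_span_singleton.1 (hXs b (Submodule.mem_span_singleton_self b))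
      have e := hg.1 v b
      rw [hfix hvN, ← hc, f.smul_right, hab, mul_one] at e
      have : c = 1 := by rw [← f.sig_sig c, e, map_one]
      rw [hN', ← hc, this, one_smul, sub_self]
    set U' := f.inner U (Submodule.span F {v}) (Submodule.span F {b})
    have hfr := f.frame_one hvU hbU hvQ hQb hab
    have hmove' : move g U' = move g U := by
      refine le_antisymm (Submodule.map_mono (f.inner_le _ _ _)) ?_
      rintro _ ⟨u, hu, rfl⟩
      refine ⟨f.proj (fun _ : Fin 1 => v) (fun _ : Fin 1 => b) u,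
        f.mem_inner_one.2 ⟨hfr.proj_mem f hu, hfr.proj_perp f u⟩, ?_⟩
      show N _ = N u
      rw [proj_apply, map_sub, map_sub, map_sum, map_sum]
      simp [hvN, hNb]
    rw [ih _ (hn ▸ Submodule.finrank_lt_finrank_of_lt (f.inner_lt (by simpa using (f.ne_zero_of_pair hab).2)
      (by rw [Submodule.span_singleton_le_iff_mem]; exact hbU) hopp)) U' g rfl hg hinj
      (f.stb_inner hg hinj hU hWs hXs) hnil (by rw [hmove']; exact hmove) (by rw [hmove']; exact hgood), mul_zero]

end Form

end Cfsg.Agent.StPolar
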