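import Cfsg.Agent.Lib.SteinbergPolar.Space

/-!
Hyperbolic frames and the isometries built from them.
-/

set_option autoImplicit false
set_option linter.unusedSectionVars false

namespace Cfsg.Agent.StPolar

variable {F V : Type*} [Field F] [AddCommGroup V] [Module F V]

namespace Form

variable (f : Form F V)

/-- A hyperbolic frame in `U`. -/
structure Frame (U : Submodule F V) {k : ℕ} (e e' : Fin k → V) : Prop where
  mem : ∀ i, e i ∈ U
  mem' : ∀ i, e' i ∈ U
  sing : ∀ i, f.Q (e i) = 0
  sing' : ∀ i, f.Q (e' i) = 0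
  ee : ∀ i j, f.B (e i) (e j) = 0
  ee' : ∀ i j, f.B (e' i) (e' j) = 0
  dual : ∀ i j, f.B (e i) (e' j) = if i = j then 1 else 0

/-- Orthogonal to a frame. -/
def Perp₂ {k : ℕ} (e e' : Fin k → V) (v : V) : Prop := (∀ i, f.B v (e i) = 0) ∧ ∀ i, f.B v (e' i) = 0

theorem Q_sum_perp {ι : Type*} (s : Finset ι) (x : ι → V) (h : ∀ i ∈ s, ∀ j ∈ s, f.B (x i) (x j) = 0)
    (h0 : ∀ i ∈ s, f.Q (x i) = 0) : f.Q (∑ i ∈ s, x i) = 0 := by
  classical
  induction s using Finset.induction with
  | empty => simp [f.Q_zero]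
  | insert a s ha ih =>
    rw [Finset.sum_insert ha, f.Q_add_perp, h0 a (Finset.mem_insert_self a s), zero_add]
    · exact ih (fun i hi j hj => h i (Finset.mem_insert_of_mem hi) j (Finset.mem_insert_of_mem hj))
        fun i hi => h0 i (Finset.mem_insert_of_mem hi)
    · rw [f.sum_right]
      exact Finset.sum_eq_zero fun i hi => h a (Finset.mem_insert_self a s) i (Finset.mem_insert_of_mem hi)

/-- The combination of a frame. -/
def comb {k : ℕ} (e e' : Fin k → V) (a b : Fin k → F) (w : V) : V :=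
  (∑ i, a i • e i) + (∑ i, b i • e' i) + w

variable {U : Submodule F V} {k : ℕ} {e e' : Fin k → V}

theorem Frame.dual' (h : f.Frame U e e') (i j : Fin k) : f.B (e' i) (e j) = if i = j then f.eps else 0 := by
  rw [f.flip (e j) (e' i), h.dual]
  by_cases hij : j = i
  · rw [if_pos hij, if_pos hij.symm, map_one, mul_one]
  · rw [if_neg hij, if_neg (Ne.symm hij), map_zero, mul_zero]

theorem Frame.B_comb (h : f.Frame U e e') (a b a' b' : Fin k → F) {w w' : V} (hw : f.Perp₂ e e' w)
    (hw' : f.Perp₂ e e' w') :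
    f.B (comb e e' a b w) (comb e e' a' b' w') =
      (∑ i, a i * f.sig (b' i)) + f.eps * (∑ i, b i * f.sig (a' i)) + f.B w w' := by
  have h1 : ∀ i, f.B (e i) w' = 0 := fun i => f.B_comm_zero (hw'.1 i)
  have h2 : ∀ i, f.B (e' i) w' = 0 := fun i => f.B_comm_zero (hw'.2 i)
  simp only [comb, f.add_left, f.add_right, f.sum_left, f.sum_right, f.smul_left, f.smul_right, h.ee, h.ee',
    h.dual, h.dual' f, h1, h2, hw.1, hw.2, mul_zero, Finset.sum_const_zero, add_zero, zero_add, mul_ite,
    mul_one, Finset.sum_ite_eq, Finset.mem_univ, if_true, Finset.mul_sum]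
  congr 1
  congr 1
  exact Finset.sum_congr rfl fun i _ => by ring

theorem Frame.Q_comb (h : f.Frame U e e') (a b : Fin k → F) {w : V} (hw : f.Perp₂ e e' w) :
    f.Q (comb e e' a b w) = f.tau (∑ i, a i * f.sig (b i)) + f.Q w := by
  have hp : f.B (∑ i, a i • e i + ∑ i, b i • e' i) w = 0 := by
    have h1 : ∀ i, f.B (e i) w = 0 := fun i => f.B_comm_zero (hw.1 i)
    have h2 : ∀ i, f.B (e' i) w = 0 := fun i => f.B_comm_zero (hw.2 i)
    simp [f.add_left, f.sum_left, f.smul_left, h1, h2]
  rw [comb, f.Q_add_perp hp, f.Q_add]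
  rw [f.Q_sum_perp _ _ (fun i _ j _ => by simp [f.smul_left, f.smul_right, h.ee])
      (fun i _ => by rw [f.Q_smul, h.sing, mul_zero]),
    f.Q_sum_perp _ _ (fun i _ j _ => by simp [f.smul_left, f.smul_right, h.ee'])
      (fun i _ => by rw [f.Q_smul, h.sing', mul_zero]), zero_add, zero_add]
  congr 2
  simp only [f.sum_left, f.sum_right, f.smul_left, f.smul_right, h.dual, mul_ite, mul_one, mul_zero,
    Finset.sum_ite_eq, Finset.mem_univ, if_true]

/-- Coordinates along the first half. -/
def coA (e' : Fin k → V) (v : V) (i : Fin k) : F := f.B v (e' i)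

/-- Coordinates along the second half. -/
def coB (e : Fin k → V) (v : V) (i : Fin k) : F := f.eps⁻¹ * f.B v (e i)

/-- Projection to the orthogonal of a frame. -/
def proj (e e' : Fin k → V) : V →ₗ[F] V :=
  LinearMap.id - (∑ i, (f.lin (e' i)).smulRight (e i)) - ∑ i, (f.eps⁻¹ • f.lin (e i)).smulRight (e' i)

theorem proj_apply (e e' : Fin k → V) (v : V) :
    f.proj e e' v = v - (∑ i, f.coA e' v i • e i) - ∑ i, f.coB e v i • e' i := by
  simp [proj, coA, coB, lin_apply, LinearMap.sum_apply]

theorem eq_comb (e e' : Fin k → V) (v : V) :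
    v = comb e e' (f.coA e' v) (f.coB e v) (f.proj e e' v) := by
  rw [comb, proj_apply]
  abel

theorem Frame.proj_perp (h : f.Frame U e e') (v : V) : f.Perp₂ e e' (f.proj e e' v) := by
  have he := f.eps_ne
  constructor <;> intro j <;>
    simp only [proj_apply, f.sub_left, f.sum_left, f.smul_left, h.ee, h.ee', h.dual, h.dual' f, mul_ite,
      mul_one, mul_zero, Finset.sum_ite_eq', Finset.mem_univ, if_true, Finset.sum_const_zero, sub_zero] <;>
    simp only [coA, coB] <;> field_simp <;> ring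

theorem Frame.proj_mem (h : f.Frame U e e') {v : V} (hv : v ∈ U) : f.proj e e' v ∈ U := by
  rw [proj_apply]
  exact Submodule.sub_mem _ (Submodule.sub_mem _ hv (Submodule.sum_mem _ fun i _ => Submodule.smul_mem _ _ (h.mem i)))
    (Submodule.sum_mem _ fun i _ => Submodule.smul_mem _ _ (h.mem' i))

theorem Frame.proj_self (h : f.Frame U e e') (i : Fin k) : f.proj e e' (e i) = 0 ∧ f.proj e e' (e' i) = 0 := by
  have he := f.eps_ne
  constructor <;>
    simp [proj_apply, coA, coB, h.ee, h.ee', h.dual, h.dual' f, he, mul_ite]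

theorem proj_of_perp {e e' : Fin k → V} {v : V} (hv : f.Perp₂ e e' v) : f.proj e e' v = v := by
  simp [proj_apply, coA, coB, hv.1, hv.2]

/-- Extend an isometry of the orthogonal of a frame by the identity. -/
theorem Frame.exists_ext (h : f.Frame U e e') {g : V →ₗ[F] V}
    (hg : ∀ u ∈ U, f.Perp₂ e e' u → g u ∈ U ∧ f.Perp₂ e e' (g u))
    (hB : ∀ u ∈ U, ∀ v ∈ U, f.Perp₂ e e' u → f.Perp₂ e e' v → f.B (g u) (g v) = f.B u v)
    (hQ : ∀ u ∈ U, f.Perp₂ e e' u → f.Q (g u) = f.Q u) :
    ∃ φ : V →ₗ[F] V, f.IsoOn U φ ∧ (∀ i, φ (e i) = e i) ∧ (∀ i, φ (e' i) = e' i) ∧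
      ∀ u ∈ U, f.Perp₂ e e' u → φ u = g u := by
  refine ⟨(LinearMap.id - f.proj e e') + g.comp (f.proj e e'), ⟨fun u hu => ?_, ?_, ?_⟩, fun i => ?_,
    fun i => ?_, fun u _ hp => ?_⟩
  · exact Submodule.add_mem _ (Submodule.sub_mem _ hu (h.proj_mem f hu))
      (hg _ (h.proj_mem f hu) (h.proj_perp f u)).1
  · intro u hu v hv
    have key : ∀ x, ((LinearMap.id (R := F) (M := V) - f.proj e e') + g.comp (f.proj e e') : V →ₗ[F] V) x =
        comb e e' (f.coA e' x) (f.coB e x) (g (f.proj e e' x)) := fun x => by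
      simp only [LinearMap.add_apply, LinearMap.sub_apply, LinearMap.id_apply, LinearMap.comp_apply, comb]
      generalize g (f.proj e e' _) = w
      rw [proj_apply]
      abel
    rw [key, key, h.B_comb f _ _ _ _ (hg _ (h.proj_mem f hu) (h.proj_perp f u)).2
      (hg _ (h.proj_mem f hv) (h.proj_perp f v)).2, hB _ (h.proj_mem f hu) _ (h.proj_mem f hv)
      (h.proj_perp f u) (h.proj_perp f v)]
    conv_rhs => rw [f.eq_comb e e' u, f.eq_comb e e' v, h.B_comb f _ _ _ _ (h.proj_perp f u) (h.proj_perp f v)]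
  · intro u hu
    have key : ((LinearMap.id (R := F) (M := V) - f.proj e e') + g.comp (f.proj e e') : V →ₗ[F] V) u =
        comb e e' (f.coA e' u) (f.coB e u) (g (f.proj e e' u)) := by
      simp only [LinearMap.add_apply, LinearMap.sub_apply, LinearMap.id_apply, LinearMap.comp_apply, comb]
      generalize g (f.proj e e' _) = w
      rw [proj_apply]
      abel
    rw [key, h.Q_comb f _ _ (hg _ (h.proj_mem f hu) (h.proj_perp f u)).2,
      hQ _ (h.proj_mem f hu) (h.proj_perp f u)]
    conv_rhs => rw [f.eq_comb e e' u, h.Q_comb f _ _ (h.proj_perp f u)]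
  · simp [(h.proj_self f i).1]
  · simp [(h.proj_self f i).2]
  · simp [f.proj_of_perp hp]

/-- Move a frame to another one. -/
theorem Frame.exists_move (h : f.Frame U e e') {d d' : Fin k → V} (hd : f.Frame U d d')
    (hc : ∀ u ∈ U, f.Perp₂ e e' u → ∀ i, f.B u (d i) = 0) :
    ∃ φ : V →ₗ[F] V, f.IsoOn U φ ∧ (∀ i, φ (e i) = d i) ∧ (∀ i, φ (e' i) = d' i) ∧
      ∀ u ∈ U, f.Perp₂ e e' u → φ u = u - ∑ i, f.B u (d' i) • d i := by
  let σ : V →ₗ[F] V := LinearMap.id - ∑ i, (f.lin (d' i)).smulRight (d i)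
  have hσ : ∀ v, σ v = v - ∑ i, f.B v (d' i) • d i := fun v => by
    simp [σ, lin_apply, LinearMap.sum_apply]
  let φ : V →ₗ[F] V := (∑ i, (f.lin (e' i)).smulRight (d i)) +
    (∑ i, (f.eps⁻¹ • f.lin (e i)).smulRight (d' i)) + σ.comp (f.proj e e')
  have hφ : ∀ v, φ v = comb d d' (f.coA e' v) (f.coB e v) (σ (f.proj e e' v)) := fun v => by
    simp [φ, comb, coA, coB, lin_apply, LinearMap.sum_apply]
  have hperp : ∀ u ∈ U, f.Perp₂ d d' (σ (f.proj e e' u)) := fun u hu => by
    have hc' := hc _ (h.proj_mem f hu) (h.proj_perp f u)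
    constructor <;> intro j <;>
      simp [hσ, f.sub_left, f.sum_left, f.smul_left, hd.ee, hd.dual, hc', mul_ite]
  have hBB : ∀ u ∈ U, ∀ v ∈ U, f.B (σ (f.proj e e' u)) (σ (f.proj e e' v)) =
      f.B (f.proj e e' u) (f.proj e e' v) := fun u hu v hv => by
    have hc1 := hc _ (h.proj_mem f hu) (h.proj_perp f u)
    have hc2 : ∀ i, f.B (d i) (f.proj e e' v) = 0 := fun i =>
      f.B_comm_zero (hc _ (h.proj_mem f hv) (h.proj_perp f v) i)
    simp [hσ, f.sub_left, f.sub_right, f.sum_left, f.sum_right, f.smul_left, f.smul_right, hc1, hc2, hd.ee]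
  have hQQ : ∀ u ∈ U, f.Q (σ (f.proj e e' u)) = f.Q (f.proj e e' u) := fun u hu => by
    have hc1 := hc _ (h.proj_mem f hu) (h.proj_perp f u)
    rw [hσ, sub_eq_add_neg, f.Q_add_perp, ← neg_one_smul F, f.Q_smul,
      f.Q_sum_perp _ _ (fun i _ j _ => by simp [f.smul_left, f.smul_right, hd.ee])
        (fun i _ => by rw [f.Q_smul, hd.sing, mul_zero]), mul_zero, add_zero]
    rw [← neg_one_smul F, f.smul_right, f.sum_right]
    simp [f.smul_right, hc1]
  refine ⟨φ, ⟨fun u hu => ?_, fun u hu v hv => ?_, fun u hu => ?_⟩, fun i => ?_, fun i => ?_,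
    fun u _ hp => ?_⟩
  · rw [hφ, comb, hσ]
    exact Submodule.add_mem _ (Submodule.add_mem _
      (Submodule.sum_mem _ fun i _ => Submodule.smul_mem _ _ (hd.mem i))
      (Submodule.sum_mem _ fun i _ => Submodule.smul_mem _ _ (hd.mem' i)))
      (Submodule.sub_mem _ (h.proj_mem f hu) (Submodule.sum_mem _ fun i _ => Submodule.smul_mem _ _ (hd.mem i)))
  · rw [hφ, hφ, hd.B_comb f _ _ _ _ (hperp u hu) (hperp v hv), hBB u hu v hv]
    conv_rhs => rw [f.eq_comb e e' u, f.eq_comb e e' v, h.B_comb f _ _ _ _ (h.proj_perp f u) (h.proj_perp f v)]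
  · rw [hφ, hd.Q_comb f _ _ (hperp u hu), hQQ u hu]
    conv_rhs => rw [f.eq_comb e e' u, h.Q_comb f _ _ (h.proj_perp f u)]
  · rw [hφ, (h.proj_self f i).1, map_zero]
    simp [comb, coA, coB, h.dual, h.ee, ite_smul]
  · rw [hφ, (h.proj_self f i).2, map_zero]
    simp [comb, coA, coB, h.dual' f, h.ee', mul_ite, ite_smul, f.eps_ne]
  · rw [hφ, f.proj_of_perp hp, hσ]
    simp [comb, coA, coB, hp.1, hp.2]

variable [Finite V]

/-- A totally singular basis extends to a frame. -/
theorem exists_frame (hU : f.Red U) {k : ℕ} (e : Fin k → V) (hli : LinearIndependent F e)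
    (hmem : ∀ i, e i ∈ U) (hT : f.TI (Submodule.span F (Set.range e))) :
    ∃ e' : Fin k → V, f.Frame U e e' := by
  classical
  haveI : Module.Finite F V := Module.Finite.of_finite
  have hsing : ∀ i, f.Q (e i) = 0 := fun i => hT.1 _ (Submodule.subset_span ⟨i, rfl⟩)
  have hee : ∀ i j, f.B (e i) (e j) = 0 := fun i j =>
    hT.2 (Submodule.subset_span ⟨i, rfl⟩) _ (Submodule.subset_span ⟨j, rfl⟩)
  let M : U →ₗ[F] (Fin k → F) := LinearMap.pi fun i => (f.lin (e i)).comp U.subtype
  have hsurj : Function.Surjective M := by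
    rw [← LinearMap.range_eq_top]
    by_contra hne
    obtain ⟨φ, hφ0, hφ⟩ := Submodule.exists_dual_map_eq_bot_of_lt_top (lt_top_iff_ne_top.2 hne) inferInstance
    set c : Fin k → F := fun i => φ (Pi.single i 1) with hc
    have hφc : ∀ x : Fin k → F, φ x = ∑ i, x i * c i := fun x => by
      conv_lhs => rw [← Finset.univ_sum_single x]
      rw [map_sum]
      refine Finset.sum_congr rfl fun i _ => ?_
      rw [hc, ← smul_eq_mul (x i), ← map_smul, ← Pi.single_smul', smul_eq_mul, mul_one]
    set v : V := ∑ i, f.sig (c i) • e i with hv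
    have hperp : ∀ u ∈ U, f.B v u = 0 := fun u hu => by
      refine f.B_comm_zero ?_
      have h0 : φ (M ⟨u, hu⟩) = 0 := by
        have : φ (M ⟨u, hu⟩) ∈ (LinearMap.range M).map φ := ⟨_, LinearMap.mem_range_self M _, rfl⟩
        rw [hφ, Submodule.mem_bot] at this
        exact this
      rw [hv, f.sum_right, ← h0, hφc]
      refine Finset.sum_congr rfl fun i _ => ?_
      rw [f.smul_right, f.sig_sig]
      simp [M, lin_apply, mul_comm]
    have hv0 := hU v (Submodule.sum_mem _ fun i _ => Submodule.smul_mem _ _ (hmem i))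
      (hT.1 v (Submodule.sum_mem _ fun i _ => Submodule.smul_mem _ _ (Submodule.subset_span ⟨i, rfl⟩))) hperp
    have hc0 : ∀ i, f.sig (c i) = 0 := Fintype.linearIndependent_iff.1 hli _ hv0
    refine hφ0 (LinearMap.ext fun x => ?_)
    rw [hφc, LinearMap.zero_apply]
    refine Finset.sum_eq_zero fun i _ => ?_
    rw [show c i = 0 from (map_eq_zero f.sig).1 (hc0 i), mul_zero]
  choose z hz using fun j : Fin k => hsurj (fun i => if i = j then f.eps else 0)
  have hy : ∀ i j, f.B (e i) (z j : V) = if i = j then 1 else 0 := fun i j => by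
    have h1 : f.B (z j : V) (e i) = if i = j then f.eps else 0 := congrFun (hz j) i
    have h2 := f.flip (e i) (z j : V)
    rw [h1] at h2
    by_cases hij : i = j
    · rw [if_pos hij] at h2 ⊢
      have h3 : f.sig (f.B (e i) (z j : V)) = 1 := mul_left_cancel₀ f.eps_ne (by rw [mul_one]; exact h2.symm)
      rw [← f.sig_sig (f.B (e i) (z j : V)), h3, map_one]
    · rw [if_neg hij] at h2 ⊢
      rcases mul_eq_zero.1 h2.symm with e0 | e0
      · exact absurd e0 f.eps_ne
      · exact (map_eq_zero f.sig).1 e0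
  -- make the partners singular and orthogonal, one at a time
  suffices h : ∀ m : ℕ, m ≤ k → ∃ e' : Fin k → V, (∀ i, e' i ∈ U) ∧
      (∀ i j, f.B (e i) (e' j) = if i = j then 1 else 0) ∧
      (∀ i : Fin k, i.val < m → f.Q (e' i) = 0) ∧
      ∀ i j : Fin k, i.val < m → j.val < m → i ≠ j → f.B (e' i) (e' j) = 0 by
    obtain ⟨e', h1, h2, h3, h4⟩ := h k le_rfl
    refine ⟨e', ⟨hmem, h1, hsing, fun i => h3 i i.2, hee, fun i j => ?_, h2⟩⟩
    by_cases hij : i = j
    · rw [hij]; exact f.self_zero _ (h3 j j.2)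
    · exact h4 i j i.2 j.2 hij
  intro m
  induction m with
  | zero => exact fun _ => ⟨fun j => z j, fun j => (z j).2, hy, fun i hi => absurd hi (by omega), fun i j hi => absurd hi (by omega)⟩
  | succ m ih =>
    intro hm
    obtain ⟨e', h1, h2, h3, h4⟩ := ih (by omega)
    let n : Fin k := ⟨m, by omega⟩
    -- correct by the earlier `e i`
    set y1 : V := e' n - ∑ i ∈ Finset.univ.filter (fun i : Fin k => i.val < m), f.B (e' n) (e' i) • e i with hy1
    have hy1e : ∀ i, f.B (e i) y1 = if i = n then 1 else 0 := fun i => by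
      simp [hy1, f.sub_right, f.sum_right, f.smul_right, hee, h2]
    have hy1f : ∀ j : Fin k, j.val < m → f.B y1 (e' j) = 0 := fun j hj => by
      rw [hy1, f.sub_left, f.sum_left, Finset.sum_eq_single j]
      · rw [f.smul_left, h2, if_pos rfl, mul_one, sub_self]
      · intro i _ hij
        rw [f.smul_left, h2, if_neg hij, mul_zero]
      · intro hh
        refine absurd ?_ hh
        exact Finset.mem_filter.2 ⟨Finset.mem_univ j, hj⟩
    obtain ⟨c, hc⟩ := f.trace y1
    set y2 : V := y1 + (-c) • e n with hy2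
    have hy2e : ∀ i, f.B (e i) y2 = if i = n then 1 else 0 := fun i => by
      rw [hy2, f.add_right, f.smul_right, hee, mul_zero, add_zero, hy1e]
    have hy2f : ∀ j : Fin k, j.val < m → f.B y2 (e' j) = 0 := fun j hj => by
      rw [hy2, f.add_left, f.smul_left, hy1f j hj, h2, if_neg (fun h => by
        have := congrArg Fin.val h
        simp only [n] at this
        omega), mul_zero, add_zero]
    have hy2Q : f.Q y2 = 0 := by
      rw [hy2, add_comm, f.Q_add, f.Q_smul, hsing, f.smul_left, hy1e, if_pos rfl, mul_one, mul_zero,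
        zero_add, map_neg, hc, add_neg_cancel]
    have hy2U : y2 ∈ U := Submodule.add_mem _ (Submodule.sub_mem _ (h1 n)
      (Submodule.sum_mem _ fun i _ => Submodule.smul_mem _ _ (hmem i))) (Submodule.smul_mem _ _ (hmem n))
    refine ⟨Function.update e' n y2, fun i => ?_, fun i j => ?_, fun i hi => ?_, fun i j hi hj hij => ?_⟩
    · by_cases h : i = n
      · rw [h, Function.update_self]; exact hy2U
      · rw [Function.update_of_ne h]; exact h1 i
    · by_cases h : j = n
      · rw [h, Function.update_self]; exact hy2e i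
      · rw [Function.update_of_ne h]; exact h2 i j
    · by_cases h : i = n
      · rw [h, Function.update_self]; exact hy2Q
      · rw [Function.update_of_ne h]
        exact h3 i (Nat.lt_of_le_of_ne (Nat.le_of_lt_succ hi) fun e => h (Fin.ext e))
    · have hlt : ∀ l : Fin k, l.val < m + 1 → l ≠ n → l.val < m := fun l hl hne =>
        Nat.lt_of_le_of_ne (Nat.le_of_lt_succ hl) fun e => hne (Fin.ext e)
      by_cases hin : i = n
      · subst hin
        rw [Function.update_self, Function.update_of_ne (Ne.symm hij)]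
        exact hy2f j (hlt j hj (Ne.symm hij))
      · by_cases hjn : j = n
        · subst hjn
          rw [Function.update_self, Function.update_of_ne hin]
          exact f.B_comm_zero (hy2f i (hlt i hi hin))
        · rw [Function.update_of_ne hin, Function.update_of_ne hjn]
          exact h4 i j (hlt i hi hin) (hlt j hj hjn) hij

theorem exists_opp (hU : f.Red U) {T : Submodule F V} (hT : f.TI T) (hTU : T ≤ U) :
    ∃ X, f.TI X ∧ X ≤ U ∧ f.Opp X T := by
  classical
  haveI : Module.Finite F V := Module.Finite.of_finite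
  let b := Module.finBasis F T
  let e : Fin (Module.finrank F T) → V := fun i => (b i : V)
  have hli : LinearIndependent F e := b.linearIndependent.map' T.subtype T.ker_subtype
  have hspan : Submodule.span F (Set.range e) = T := by
    rw [show Set.range e = T.subtype '' Set.range b from by rw [← Set.range_comp]; rfl,
      ← Submodule.map_span, b.span_eq, Submodule.map_subtype_top]
  obtain ⟨e', he'⟩ := f.exists_frame hU e hli (fun i => hTU (b i).2) (by rwa [hspan])
  refine ⟨Submodule.span F (Set.range e'), ?_, Submodule.span_le.2 (Set.range_subset_iff.2 he'.mem'), ?_, ?_⟩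
  · refine ⟨fun v hv => ?_, fun v hv w hw => ?_⟩
    · obtain ⟨c, rfl⟩ := (Submodule.mem_span_range_iff_exists_fun F).1 hv
      exact f.Q_sum_perp _ _ (fun i _ j _ => by simp [f.smul_left, f.smul_right, he'.ee'])
        (fun i _ => by rw [f.Q_smul, he'.sing', mul_zero])
    · obtain ⟨c, rfl⟩ := (Submodule.mem_span_range_iff_exists_fun F).1 hv
      obtain ⟨d, rfl⟩ := (Submodule.mem_span_range_iff_exists_fun F).1 hw
      simp [f.sum_left, f.sum_right, f.smul_left, f.smul_right, he'.ee']
  · rw [eq_bot_iff]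
    rintro v ⟨hv, hv'⟩
    rw [← hspan] at hv
    obtain ⟨c, rfl⟩ := (Submodule.mem_span_range_iff_exists_fun F).1 hv
    have hc : ∀ j, c j = 0 := fun j => by
      have := hv' (e' j) (Submodule.subset_span ⟨j, rfl⟩)
      simpa [f.sum_left, f.smul_left, he'.dual] using this
    simp [hc]
  · rw [eq_bot_iff]
    rintro v ⟨hv, hv'⟩
    obtain ⟨c, rfl⟩ := (Submodule.mem_span_range_iff_exists_fun F).1 hv
    have hc : ∀ j, c j = 0 := fun j => by
      have := hv' (e j) (hspan ▸ Submodule.subset_span ⟨j, rfl⟩)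
      simpa [f.sum_left, f.smul_left, he'.dual' f, f.eps_ne] using this
    simp [hc]

end Form

end Cfsg.Agent.StPolar
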