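import Cfsg.Agent.Lib.SteinbergPolar.Main
import Cfsg.Agent.Lib.Forms.Sp
import Cfsg.Agent.Lib.Forms.UnitaryFin
import Cfsg.Prelude.Def_LieClassical

/-!
The formed spaces of the symplectic and unitary groups and their Steinberg characters.
-/

set_option autoImplicit false
set_option linter.unusedSectionVars false
set_option linter.style.haveILetI false

namespace Cfsg.Agent.StPolar

open scoped Matrix

universe u

variable {F : Type u} [Field F] [Fintype F]

/-- The symplectic formed space. -/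
noncomputable def spForm (m : ℕ) (F : Type u) [Field F] : Form F (Fin m ⊕ Fin m → F) where
  sig := RingHom.id F
  eps := -1
  tau := 0
  B u v := FormsLib.spB m F u v
  Q _ := 0
  sig_sig _ := rfl
  eps_ne := neg_ne_zero.2 one_ne_zero
  add_left u v w := LinearMap.map_add₂ _ u v w
  smul_left c u v := LinearMap.map_smul₂ _ c u v
  flip u v := by rw [← LinearMap.IsAlt.neg FormsLib.spB_alt u v]; simp
  Q_smul _ _ := (mul_zero _).symm
  Q_add _ _ := by simp
  trace v := ⟨0, rfl⟩
  self_zero v _ := FormsLib.spB_alt v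
  plane _ _ _ _ _ := ⟨1, 0, fun h => one_ne_zero h.1, rfl⟩

theorem pow_char_pow_eq_one {p : ℕ} [Fact p.Prime] [CharP F p] {x : F} {k : ℕ} (h : x ^ p ^ k = 1) : x = 1 := by
  have := sub_pow_char_pow (p := p) x 1 k
  rw [h, one_pow, sub_self] at this
  exact sub_eq_zero.1 (pow_eq_zero_iff (pow_ne_zero k (Fact.out : p.Prime).ne_zero) |>.1 this)

theorem steinberg_psp (p : ℕ) [Fact p.Prime] [CharP F p] (m : ℕ) :
    ∃ χ : Cfsg.PSp m F → ℂ, Cfsg.IsIrrCharacter (Cfsg.PSp m F) χ ∧
      ∀ P : Sylow p (Cfsg.PSp m F), χ 1 = Nat.card P ∧ ∀ x : Cfsg.PSp m F, x ∈ P → x ≠ 1 → χ x = 0 := by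
  classical
  letI := Fintype.ofFinite (Submodule F (Fin m ⊕ Fin m → F))
  let ρ : Matrix.symplecticGroup (Fin m) F →* ((Fin m ⊕ Fin m → F) ≃ₗ[F] (Fin m ⊕ Fin m → F)) :=
    (FormsLib.SpIso m F).subtype.comp (FormsLib.spEquiv m F).toMonoidHom
  have hnd : ∀ v, (∀ w, FormsLib.spB m F v w = 0) → v = 0 := fun v hv => FormsLib.spB_nondeg.1 v hv
  have hQd : (spForm m F).Qdet := fun _ _ => rfl
  refine (spForm m F).steinberg (ρ := ρ) (p := p)
    (fun a b h => (FormsLib.spEquiv m F).injective (Subtype.ext h)) ?_ ⟨fun h => ?_, fun h => ?_, ?_⟩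
    (Or.inl hQd) ⊤ (fun h _ _ => Subgroup.mem_top h) (fun h _ _ => Or.inl hQd)
    (Or.inl (by rw [Subgroup.index_top]; exact Nat.coprime_one_left p)) Subgroup.topEquiv.symm
  · exact fun v _ _ hv => hnd v fun w => hv w Submodule.mem_top
  · exact ⟨fun a b => (FormsLib.spEquiv m F h).2 a b, fun _ => rfl⟩
  · exact fun _ _ => Submodule.mem_top
  · intro g hg
    have hB : ∀ a b, FormsLib.spB m F (g a) (g b) = FormsLib.spB m F a b :=
      fun a b => hg.2.1 a Submodule.mem_top b Submodule.mem_top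
    have hinj : Function.Injective g := (injective_iff_map_eq_zero g).2 fun v hv => hnd v fun w => by
      rw [← hB, hv, map_zero, LinearMap.zero_apply]
    refine ⟨(FormsLib.spEquiv m F).symm ⟨LinearEquiv.ofInjectiveEndo g hinj, hB⟩, fun v _ => ?_⟩
    show ((FormsLib.spEquiv m F) ((FormsLib.spEquiv m F).symm _)).1 v = g v
    rw [MulEquiv.apply_symm_apply]
    rfl

variable {q : ℕ}

theorem steinberg_psu (p : ℕ) [Fact p.Prime] [CharP F p] (n : ℕ) (hF : Fintype.card F = q ^ 2) :
    ∃ χ : Cfsg.PSU n F q → ℂ, Cfsg.IsIrrCharacter (Cfsg.PSU n F q) χ ∧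
      ∀ P : Sylow p (Cfsg.PSU n F q), χ 1 = Nat.card P ∧ ∀ x : Cfsg.PSU n F q, x ∈ P → x ≠ 1 → χ x = 0 := by
  classical
  letI := Fintype.ofFinite (Submodule F (Fin n → F))
  obtain ⟨s, hs, hinv, hq⟩ := FormsLib.exists_qhom hF
  obtain ⟨hU, -⟩ := FormsLib.hermB_isUnitary hF n hs hinv hq
  have hB : ∀ u v, Cfsg.hermForm n F q v u = FormsLib.hermB n s u v := fun u v => (FormsLib.hermB_apply hs u v).symm
  have hflip : ∀ u v, Cfsg.hermForm n F q v u = s (Cfsg.hermForm n F q u v) := fun u v => by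
    rw [hB, hB]
    exact FormsLib.herm_flip hU v u
  let f : Form F (Fin n → F) :=
    { sig := s
      eps := 1
      tau := AddMonoidHom.id F + s.toAddMonoidHom
      B := Cfsg.hermForm n F q
      Q := fun v => Cfsg.hermForm n F q v v
      sig_sig := hinv
      eps_ne := one_ne_zero
      add_left := fun u v w => by simp [Cfsg.hermForm, add_mul, Finset.sum_add_distrib]
      smul_left := fun c u v => by simp [Cfsg.hermForm, Finset.mul_sum, mul_assoc]
      flip := fun u v => by rw [one_mul]; exact hflip u v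
      Q_smul := fun c v => by
        simp only [hB, map_smulₛₗ, LinearMap.smul_apply, RingHom.id_apply, smul_eq_mul]
        ring
      Q_add := fun u v => by
        simp only [AddMonoidHom.add_apply, AddMonoidHom.id_apply]
        show _ = _ + _ + (_ + s (Cfsg.hermForm n F q u v))
        rw [← hflip]
        simp only [hB, map_add, LinearMap.add_apply]
        ring
      trace := fun v => by
        obtain ⟨t, ht⟩ := FormsLib.exists_trace hU (hflip v v).symm
        exact ⟨t, ht⟩
      self_zero := fun _ h => h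
      plane := fun u v hu _ _ => ⟨1, 0, fun h => one_ne_zero h.1, by simpa using hu⟩ }
  have hnd : ∀ v, (∀ w, f.B v w = 0) → v = 0 := fun v hv => funext fun i => by
    have h := hv (Pi.single i 1)
    change ∑ j, v j * (Pi.single i (1 : F) : Fin n → F) j ^ q = 0 at h
    rw [Finset.sum_eq_single i (fun j _ hj => by rw [Pi.single_eq_of_ne hj, zero_pow (by omega), mul_zero])
      (by simp), Pi.single_eq_same, one_pow, mul_one] at h
    exact h
  have hQd : f.Qdet := fun _ h => h
  let ρ : Cfsg.GU n F q →* ((Fin n → F) ≃ₗ[F] (Fin n → F)) :=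
    { toFun := fun h => (Matrix.GeneralLinearGroup.toLin h.1).toLinearEquiv
      map_one' := LinearEquiv.ext fun v => by
        show ((1 : Cfsg.GU n F q).1 : Matrix (Fin n) (Fin n) F) *ᵥ v = v
        simp
      map_mul' := fun a b => LinearEquiv.ext fun v => by
        show ((a * b : Cfsg.GU n F q).1 : Matrix (Fin n) (Fin n) F) *ᵥ v =
          (a.1 : Matrix (Fin n) (Fin n) F) *ᵥ ((b.1 : Matrix (Fin n) (Fin n) F) *ᵥ v)
        simp [Matrix.mulVec_mulVec] }
  have hρ : ∀ (h : Cfsg.GU n F q) v, lm ρ h v = (h.1 : Matrix (Fin n) (Fin n) F) *ᵥ v := fun _ _ => rfl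
  set d : Cfsg.GU n F q →* Fˣ := Matrix.GeneralLinearGroup.det.comp (Cfsg.GU n F q).subtype with hd
  have hco : d.ker.index.Coprime p := by
    rw [Subgroup.index_ker]
    refine Nat.Coprime.coprime_dvd_left (Subgroup.card_subgroup_dvd_card d.range) ?_
    rw [Nat.card_units, Nat.card_eq_fintype_card]
    obtain ⟨k, hp, hk⟩ := FiniteField.card F p
    refine ((Fact.out : p.Prime).coprime_iff_not_dvd.2 fun hd => ?_).symm
    have h1 : p ∣ Fintype.card F := hk ▸ dvd_pow_self p k.pos.ne'
    have h2 := Nat.dvd_sub h1 hd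
    rw [Nat.sub_sub_self Fintype.card_pos] at h2
    exact (Fact.out : p.Prime).one_lt.ne' (Nat.dvd_one.1 h2)
  let toK : Cfsg.SU n F q → d.ker := fun x =>
    ⟨⟨Matrix.SpecialLinearGroup.toGL x.1, x.2⟩, Units.ext x.1.2⟩
  let e : Cfsg.SU n F q ≃* d.ker :=
    { toFun := toK
      invFun := fun y => ⟨⟨(y.1.1 : Matrix (Fin n) (Fin n) F), congrArg Units.val y.2⟩, y.1.2⟩
      left_inv := fun _ => rfl
      right_inv := fun _ => Subtype.ext (Subtype.ext (Units.ext rfl))
      map_mul' := fun _ _ => Subtype.ext (Subtype.ext (Units.ext rfl)) }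
  refine f.steinberg (ρ := ρ) (p := p) ?_ (fun v _ _ hv => hnd v fun w => hv w Submodule.mem_top)
    ⟨fun h => ?_, fun h => fun _ _ => Submodule.mem_top, ?_⟩ (Or.inl hQd) d.ker ?_ (fun h _ _ => Or.inl hQd)
    (Or.inl hco) e
  · intro a b h
    refine Subtype.ext (Units.ext (Matrix.ext_of_mulVec_single fun i => ?_))
    exact LinearEquiv.congr_fun h _
  · exact ⟨fun a b => h.2 a b, fun a => h.2 a a⟩
  · intro g hg
    have hgB : ∀ a b, f.B (g a) (g b) = f.B a b := fun a b => hg.2.1 a Submodule.mem_top b Submodule.mem_top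
    have hinj : Function.Injective g := (injective_iff_map_eq_zero g).2 fun v hv => hnd v fun w => by
      rw [← hgB, hv, f.B_zero_left]
    refine ⟨⟨Matrix.GeneralLinearGroup.toLin.symm
      (LinearMap.GeneralLinearGroup.ofLinearEquiv (LinearEquiv.ofInjectiveEndo g hinj)), fun a b => ?_⟩,
      fun v _ => ?_⟩
    · show f.B (LinearMap.toMatrix' (LinearEquiv.ofInjectiveEndo g hinj).toLinearMap *ᵥ a)
        (LinearMap.toMatrix' (LinearEquiv.ofInjectiveEndo g hinj).toLinearMap *ᵥ b) = f.B a b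
      rw [LinearMap.toMatrix'_mulVec, LinearMap.toMatrix'_mulVec]
      exact hgB a b
    · rw [hρ]
      show LinearMap.toMatrix' (LinearEquiv.ofInjectiveEndo g hinj).toLinearMap *ᵥ v = g v
      rw [LinearMap.toMatrix'_mulVec]
      rfl
  · rintro h ⟨k, hk⟩ -
    refine Units.ext (pow_char_pow_eq_one (p := p) (k := k) ?_)
    rw [← Units.val_pow_eq_pow_val, ← map_pow, hk, map_one, Units.val_one]

end Cfsg.Agent.StPolar
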