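import Cfsg.Agent.Lib.SteinbergPolar.Char
import Cfsg.Agent.Lib.SteinbergPolar.Degree
import Cfsg.Agent.Lib.GLUnipotent.SteinbergSL

/-!
The Steinberg character of a normal subgroup of the isometry group, and of its central quotient.
-/

set_option autoImplicit false
set_option linter.unusedSectionVars false
set_option linter.style.haveILetI false
set_option maxHeartbeats 1000000

namespace Cfsg.Agent.StPolar

universe u

open scoped ComplexConjugate

/-- An irreducible character of `p`-power degree vanishing at non-trivial `p`-elements: its degree is the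
order of a Sylow `p`-subgroup. -/
theorem sylow_card_eq {G : Type*} [Group G] [Finite G] (p : ℕ) [Fact p.Prime] {χ : G → ℂ}
    (hχ : IsIrrCharacter G χ) {j : ℕ} (h1 : χ 1 = ((p ^ j : ℕ) : ℂ))
    (hvan : ∀ x : G, (∃ k, x ^ p ^ k = 1) → x ≠ 1 → χ x = 0) (P : Sylow p G) : Nat.card P = p ^ j := by
  classical
  haveI := Fintype.ofFinite (P : Subgroup G)
  have hp := (Fact.out : p.Prime)
  obtain ⟨n, σ, hσ, rfl⟩ := hχ
  have hn : (Module.finrank ℂ (Fin n → ℂ)) = p ^ j := by
    have := h1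
    rw [Representation.char_one] at this
    exact_mod_cast this
  haveI := Fintype.ofFinite G
  have hd : p ^ j ∣ Nat.card G := hn ▸ CT.finrank_dvd_card σ
  have hle : j ≤ (Nat.card G).factorization p := (hp.pow_dvd_iff_le_factorization Nat.card_pos.ne').1 hd
  have hres : IsCharacter (P : Subgroup G) (fun x => σ.character x) :=
    CT.isCharacter_restrict _ ⟨n, σ, rfl⟩
  obtain ⟨m, hm⟩ := CT.classInner_character_nat hres (CT.isCharacter_one (G := (P : Subgroup G)))
  rw [classInner, Finset.sum_eq_single (1 : (P : Subgroup G)) (fun x _ hx => ?_) (by simp)] at hm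
  · rw [OneMemClass.coe_one, h1, map_one, mul_one,
      inv_mul_eq_iff_eq_mul₀ (Nat.cast_ne_zero.2 Nat.card_pos.ne')] at hm
    have hdvd : Nat.card P ∣ p ^ j := ⟨m, by exact_mod_cast hm⟩
    rw [P.card_eq_multiplicity] at hdvd ⊢
    exact congrArg (p ^ ·) (le_antisymm ((Nat.pow_dvd_pow_iff_le_right hp.one_lt).1 hdvd) hle)
  · obtain ⟨k, hk⟩ := P.2 x
    rw [hvan x ⟨k, congrArg Subtype.val hk⟩ (fun e => hx (Subtype.ext e)), zero_mul]

/-- An element of `p`-power order lies in a normal subgroup of index prime to `p`. -/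
theorem mem_of_coprime {G : Type*} [Group G] (p : ℕ) [Fact p.Prime] (N : Subgroup G) [N.Normal]
    (hco : N.index.Coprime p) {x : G} (hx : ∃ k, x ^ p ^ k = 1) : x ∈ N := by
  obtain ⟨k, hk⟩ := hx
  rw [← QuotientGroup.eq_one_iff, ← orderOf_eq_one_iff]
  refine Nat.eq_one_of_dvd_coprimes (Nat.Coprime.pow_left k hco.symm) ?_ (orderOf_dvd_natCard _)
  exact orderOf_dvd_of_pow_eq_one (by rw [← QuotientGroup.mk_pow, hk, QuotientGroup.mk_one])

/-- An irreducible character not vanishing outside a subgroup of index two restricts irreducibly. -/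
theorem isIrr_restrict_two {G : Type*} [Group G] [Finite G] (N : Subgroup G) (hN : N.index = 2) {χ : G → ℂ}
    (hχ : IsIrrCharacter G χ) {t : G} (ht : t ∉ N) (hχt : χ t ≠ 0) :
    IsIrrCharacter N (fun x : N => χ x) := by
  classical
  haveI := Fintype.ofFinite G
  haveI := Fintype.ofFinite N
  have hres := CT.isCharacter_restrict N (CT.isCharacter_of_isIrr hχ)
  obtain ⟨m, hm⟩ := CT.classInner_character_nat hres hres
  refine CT.isIrr_of_inner_self hres ?_
  rw [hm]
  have hm' : ∑ x : N, χ x * conj (χ x) = (Nat.card N : ℂ) * m := by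
    rw [classInner, inv_mul_eq_iff_eq_mul₀ (Nat.cast_ne_zero.2 Nat.card_pos.ne')] at hm
    exact hm
  have hG : ∑ x : G, χ x * conj (χ x) = (Nat.card G : ℂ) := by
    have h := CT.irr_inner_self hχ
    rw [classInner, inv_mul_eq_iff_eq_mul₀ (Nat.cast_ne_zero.2 Nat.card_pos.ne'), mul_one] at h
    exact h
  have hR : ∀ x : G, (χ x * conj (χ x)).re = Complex.normSq (χ x) := fun x => by
    rw [Complex.mul_conj]; simp
  have hG' : ∑ x : G, Complex.normSq (χ x) = (Nat.card G : ℝ) := by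
    have h := congrArg Complex.re hG
    rw [Complex.re_sum] at h
    simp only [hR, Complex.natCast_re] at h
    exact h
  have hN' : ∑ x : N, Complex.normSq (χ x) = (Nat.card N : ℝ) * m := by
    have h := congrArg Complex.re hm'
    rw [Complex.re_sum] at h
    simp only [hR] at h
    simpa using h
  have hlt : ∑ x : N, Complex.normSq (χ x) < ∑ x : G, Complex.normSq (χ x) := by
    rw [← Finset.sum_subtype (Finset.univ.filter fun x => x ∈ N) (fun x => by simp) fun x => Complex.normSq (χ x)]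
    exact Finset.sum_lt_sum_of_subset (Finset.subset_univ _) (Finset.mem_univ t) (by simp [ht])
      (Complex.normSq_pos.2 hχt) fun _ _ _ => Complex.normSq_nonneg _
  rw [hG', hN', ← N.index_mul_card, hN] at hlt
  push_cast at hlt
  have hm2 : m < 2 := by
    by_contra h2
    push Not at h2
    have : (2 : ℝ) ≤ m := by exact_mod_cast h2
    nlinarith [(Nat.cast_nonneg (Nat.card N) : (0 : ℝ) ≤ Nat.card N)]
  have hm0 : m ≠ 0 := fun e => by
    rw [e, Nat.cast_zero] at hm
    exact CT.irr_one_ne_zero hχ (congrFun (CT.classInner_self_eq_zero hm) (1 : N))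
  rw [show m = 1 by omega, Nat.cast_one]

variable {F V : Type*} [Field F] [Finite F] [AddCommGroup V] [Module F V] [Finite V] [Fintype (Submodule F V)]

namespace Form

variable (f : Form F V) {H : Type u} [Group H] [Finite H] {ρ : H →* (V ≃ₗ[F] V)} {p : ℕ} [Fact p.Prime]
  [CharP F p]

theorem lm_pow (h : H) (n : ℕ) : lm ρ (h ^ n) = ((lm ρ h : Module.End F V) ^ n : Module.End F V) := by
  induction n with
  | zero =>
    rw [pow_zero, pow_zero]
    exact LinearMap.ext fun v => by show (ρ 1) v = v; rw [map_one]; rfl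
  | succ n ih =>
    rw [pow_succ, pow_succ, ← ih]
    exact LinearMap.ext fun v => lm_mul ρ _ _ v

theorem st_pelement (hρ : Function.Injective ρ) (hf : f.Full ρ ⊤) {h : H} (hk : ∃ k, h ^ p ^ k = 1) (h1 : h ≠ 1)
    (hgood : f.Qdet ∨ Module.finrank F (move (lm ρ h) ⊤) ≠ 1) : f.st (lm ρ h) ⊤ = 0 := by
  have hne : move (lm ρ h) ⊤ ≠ ⊥ := fun e => h1 (hρ (by
    rw [map_one]
    refine LinearEquiv.ext fun v => sub_eq_zero.1 ((Submodule.mem_bot F).1 ?_)
    rw [← e]
    exact ⟨v, Submodule.mem_top, rfl⟩))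
  haveI : Nontrivial V := by
    by_contra hc
    rw [not_nontrivial_iff_subsingleton] at hc
    exact hne (Subsingleton.elim _ _)
  haveI : CharP (Module.End F V) p :=
    charP_of_injective_algebraMap (FaithfulSMul.algebraMap_injective F (Module.End F V)) p
  refine f.st_unipotent _ ⊤ _ rfl (hf.1 h) (ρ h).injective (hf.2.1 h) ?_ hne hgood
  obtain ⟨k, hk⟩ := hk
  refine ⟨p ^ k, ?_⟩
  show ((lm ρ h : Module.End F V) - 1) ^ p ^ k = 0
  rw [sub_pow_char_pow_of_commute _ _ (Commute.one_right _), one_pow, ← lm_pow, hk, sub_eq_zero]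
  exact LinearMap.ext fun v => by show (ρ 1) v = v; rw [map_one]; rfl

/-- A root element moving a given singular vector and fixing the point. -/
theorem exists_root (hρ : Function.Injective ρ) (hf : f.Full ρ ⊤)
    (hgood : f.Qdet ∨ ((∀ c, f.tau c = 0 → c = 0) ∧ ∀ v, (∀ w, f.B v w = 0) → v = 0))
    {a b b' : V} (hQa : f.Q a = 0) (hQb : f.Q b = 0) (hQb' : f.Q b' = 0)
    (hab : f.B a b = 1) (hab' : f.B a b' = 1) (hne : b ≠ b') :
    ∃ h : H, (∃ k, h ^ p ^ k = 1) ∧ (f.Qdet ∨ Module.finrank F (move (lm ρ h) ⊤) = 2) ∧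
      lm ρ h a = a ∧ lm ρ h b = b' ∧
      ∀ w, f.B w a = 0 → f.B w b = 0 → lm ρ h w = w - f.B w b' • a := by
  classical
  haveI : Module.Finite F V := Module.Finite.of_finite
  have hfr := f.frame_one (U := ⊤) Submodule.mem_top Submodule.mem_top hQa hQb hab
  obtain ⟨φ, hφ, hφa, hφb, hφp⟩ := hfr.exists_move f
    (f.frame_one (U := ⊤) Submodule.mem_top Submodule.mem_top hQa hQb' hab') fun u _ hu i => hu.1 i
  obtain ⟨h, hh⟩ := hf.2.2 φ hφ
  have ea : lm ρ h a = a := (hh a Submodule.mem_top).trans (hφa 0)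
  have eb : lm ρ h b = b' := (hh b Submodule.mem_top).trans (hφb 0)
  have ew : ∀ w, f.B w a = 0 → f.B w b = 0 → lm ρ h w = w - f.B w b' • a := fun w h1 h2 => by
    rw [hh w Submodule.mem_top, hφp w Submodule.mem_top ⟨fun _ => h1, fun _ => h2⟩, Fin.sum_univ_one]
  set N : Module.End F V := (lm ρ h : Module.End F V) - 1 with hN
  have hN' : ∀ x, N x = lm ρ h x - x := fun x => rfl
  -- the image of `N`
  set d := b' - b with hd
  have hNb : N b = d := by rw [hN', eb]
  have hNa : N a = 0 := by rw [hN', ea, sub_self]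
  have hNp : ∀ w, f.B w a = 0 → f.B w b = 0 → N w = -(f.B w b') • a := fun w h1 h2 => by
    rw [hN', ew w h1 h2, neg_smul, sub_sub_cancel_left]
  have hall : ∀ x, ∃ s t : F, N x = s • a + t • d := fun x => by
    have hx := f.eq_comb (fun _ : Fin 1 => a) (fun _ : Fin 1 => b) x
    have hp := hfr.proj_perp f x
    refine ⟨-(f.B (f.proj (fun _ : Fin 1 => a) (fun _ : Fin 1 => b) x) b'),
      f.coB (fun _ : Fin 1 => a) x 0, ?_⟩
    conv_lhs => rw [hx]
    simp only [comb, Fin.sum_univ_one, map_add, map_smul, hNa, hNb, smul_zero, zero_add,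
      hNp _ (hp.1 0) (hp.2 0)]
    rw [add_comm]
  have hNN : ∀ x, N (N (N x)) = 0 := by
    have hda : f.B d a = 0 := by
      rw [hd, f.sub_left, f.flip a b', f.flip a b, hab, hab', sub_self]
    have hNd : ∃ s : F, N d = s • a := by
      have hp := hfr.proj_perp f d
      refine ⟨-(f.B (f.proj (fun _ : Fin 1 => a) (fun _ : Fin 1 => b) d) b'), ?_⟩
      conv_lhs => rw [f.eq_comb (fun _ : Fin 1 => a) (fun _ : Fin 1 => b) d]
      simp [comb, coB, hda, hNa, hNp _ (hp.1 0) (hp.2 0)]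
    intro x
    obtain ⟨s, t, e⟩ := hall x
    obtain ⟨s', e'⟩ := hNd
    rw [e, map_add, map_smul, map_smul, hNa, e', smul_zero, zero_add, map_smul, map_smul, hNa, smul_zero,
      smul_zero]
  have hp := (Fact.out : p.Prime)
  have hpk : ∃ k, h ^ p ^ k = 1 := by
    refine ⟨2, hρ ?_⟩
    rw [map_one]
    refine LinearEquiv.ext fun v => ?_
    show lm ρ (h ^ p ^ 2) v = v
    rw [lm_pow, show (lm ρ h : Module.End F V) = 1 + N by rw [hN]; abel]
    haveI : Nontrivial V := ⟨⟨a, 0, (f.ne_zero_of_pair hab).1⟩⟩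
    haveI : CharP (Module.End F V) p :=
      charP_of_injective_algebraMap (FaithfulSMul.algebraMap_injective F (Module.End F V)) p
    rw [add_pow_char_pow_of_commute p 2 (Commute.one_left N), one_pow]
    have h3 : (N ^ 3 : Module.End F V) = 0 := LinearMap.ext fun x => by
      rw [pow_succ', pow_two]; exact hNN x
    rw [show (N ^ p ^ 2 : Module.End F V) = 0 from pow_eq_zero_of_le (by nlinarith [hp.two_le]) h3, add_zero]
    rfl
  refine ⟨h, hpk, ?_, ea, eb, ew⟩
  rcases hgood with hd' | ⟨htau, hnd⟩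
  · exact Or.inl hd'
  refine Or.inr (le_antisymm ?_ ?_)
  · refine le_trans (Submodule.finrank_mono (t := Submodule.span F {a, d}) ?_) ?_
    · rintro _ ⟨x, -, rfl⟩
      obtain ⟨s, t, e⟩ := hall x
      show N x ∈ _
      rw [e]
      exact Submodule.add_mem _ (Submodule.smul_mem _ _ (Submodule.subset_span (by simp)))
        (Submodule.smul_mem _ _ (Submodule.subset_span (by simp)))
    · have h2 := finrank_span_finset_le_card (R := F) ({a, d} : Finset V)
      rw [Finset.coe_pair] at h2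
      exact h2.trans Finset.card_le_two
  by_contra hlt
  have h0 : Module.finrank F (move (lm ρ h) ⊤) ≠ 0 := fun e => by
    have hd0 : d ∈ move (lm ρ h) ⊤ := hNb ▸ Submodule.mem_map_of_mem Submodule.mem_top
    rw [Submodule.finrank_eq_zero.1 e, Submodule.mem_bot] at hd0
    exact hne (sub_eq_zero.1 hd0).symm
  have h1 : Module.finrank F (move (lm ρ h) ⊤) = 1 := by omega
  set u := f.proj (fun _ : Fin 1 => a) (fun _ : Fin 1 => b) b' with hu
  have hup := hfr.proj_perp f b'
  have hu0 : u ≠ 0 := by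
    intro e
    have hb'd := f.eq_comb (fun _ : Fin 1 => a) (fun _ : Fin 1 => b) b'
    rw [← hu, e] at hb'd
    have hcb : f.coB (fun _ : Fin 1 => a) b' 0 = 1 := by
      rw [coB, f.flip a b', hab', map_one, mul_one, inv_mul_cancel₀ f.eps_ne]
    simp [comb, hcb] at hb'd
    have hc : f.coA (fun _ : Fin 1 => b) b' 0 = 0 := htau _ (by
      have := hQb'
      rw [hb'd, f.Q_add, f.Q_smul, hQa, hQb, f.smul_left, hab, mul_one, mul_zero, zero_add, zero_add] at this
      exact this)
    rw [hc, zero_smul, zero_add] at hb'd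
    exact hne hb'd.symm
  obtain ⟨w, hw⟩ : ∃ w, f.B u w ≠ 0 := by
    by_contra hc
    push Not at hc
    exact hu0 (hnd u hc)
  set w' := f.proj (fun _ : Fin 1 => a) (fun _ : Fin 1 => b) w
  have hw'p := hfr.proj_perp f w
  have hw' : f.B w' b' ≠ 0 := by
    intro e
    refine hw (f.B_comm_zero ?_)
    have e1 : f.B w u = f.B w' u := by
      conv_lhs => rw [f.eq_comb (fun _ : Fin 1 => a) (fun _ : Fin 1 => b) w]
      have h1 : f.B a u = 0 := f.B_comm_zero (hup.1 0)
      have h2 : f.B b u = 0 := f.B_comm_zero (hup.2 0)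
      simp [comb, f.add_left, f.smul_left, h1, h2, w']
    have e2 : f.B w' b' = f.B w' u := by
      conv_lhs => rw [f.eq_comb (fun _ : Fin 1 => a) (fun _ : Fin 1 => b) b']
      have h3 : f.B w' a = 0 := hw'p.1 0
      have h4 : f.B w' b = 0 := hw'p.2 0
      simp [comb, f.add_right, f.smul_right, h3, h4, u]
    rw [e1, ← e2, e]
  have ha_mem : a ∈ move (lm ρ h) ⊤ := by
    have hm : N w' ∈ move (lm ρ h) ⊤ := Submodule.mem_map_of_mem Submodule.mem_top
    rw [hNp w' (hw'p.1 0) (hw'p.2 0)] at hm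
    have := Submodule.smul_mem _ (-(f.B w' b'))⁻¹ hm
    rwa [inv_smul_smul₀ (neg_ne_zero.2 hw')] at this
  have hd_mem : d ∈ move (lm ρ h) ⊤ := hNb ▸ Submodule.mem_map_of_mem Submodule.mem_top
  obtain ⟨v, hv, hv0, hspan⟩ := line_eq _ h1
  rw [hspan, Submodule.mem_span_singleton] at ha_mem hd_mem
  obtain ⟨s, hs⟩ := ha_mem
  obtain ⟨t, ht⟩ := hd_mem
  have hs0 : s ≠ 0 := fun e => (f.ne_zero_of_pair hab).1 (by rw [← hs, e, zero_smul])
  have hd' : d = (t * s⁻¹) • a := by rw [← ht, ← hs, smul_smul, mul_assoc, inv_mul_cancel₀ hs0, mul_one]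
  refine hu0 ?_
  rw [hu, show b' = (t * s⁻¹) • a + b by rw [← hd', hd, sub_add_cancel], map_add, map_smul,
    (hfr.proj_self f 0).1, (hfr.proj_self f 0).2, smul_zero, add_zero]

/-- An element commuting with the root elements fixes every singular point. -/
theorem fix_point (hρ : Function.Injective ρ) (hU : f.Red ⊤) (hf : f.Full ρ ⊤)
    (hgood : f.Qdet ∨ ((∀ c, f.tau c = 0 → c = 0) ∧ ∀ v, (∀ w, f.B v w = 0) → v = 0))
    (hd : ∀ j : ℕ, f.st LinearMap.id ⊤ = (j : ℤ) ∨ f.st LinearMap.id ⊤ = -(j : ℤ) → j ≠ 1)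
    {z : H} (hz : ∀ h : H, (∃ k, h ^ p ^ k = 1) → (f.Qdet ∨ Module.finrank F (move (lm ρ h) ⊤) = 2) →
      Commute z h) {a : V} (ha0 : a ≠ 0) (hQa : f.Q a = 0) : lm ρ z a ∈ Submodule.span F {a} := by
  classical
  haveI : Module.Finite F V := Module.Finite.of_finite
  by_contra hout
  set a' := lm ρ z a with ha'
  have hQa' : f.Q a' = 0 := by rw [ha', (hf.1 z).2, hQa]
  have hzfix : ∀ h : H, (∃ k, h ^ p ^ k = 1) → (f.Qdet ∨ Module.finrank F (move (lm ρ h) ⊤) = 2) →
      lm ρ h a = a → lm ρ h a' = a' := fun h h1 h2 h3 => by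
    rw [ha', ← lm_mul, ← (hz h h1 h2).eq, lm_mul, h3]
  obtain ⟨e, he⟩ := f.exists_frame hU (fun _ : Fin 1 => a) (linearIndependent_unique_iff.2 ha0)
    (fun _ => Submodule.mem_top) (by rw [Set.range_const]; exact f.ti_span hQa)
  set b := e 0
  have hab : f.B a b = 1 := by have := he.dual 0 0; rwa [if_pos rfl] at this
  have hQb : f.Q b = 0 := he.sing' 0
  have hfr := f.frame_one (U := ⊤) Submodule.mem_top Submodule.mem_top hQa hQb hab
  set U' := f.inner ⊤ (Submodule.span F {a}) (Submodule.span F {b})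
  by_cases h0 : f.B a' a = 0
  · set w := f.proj (fun _ : Fin 1 => a) (fun _ : Fin 1 => b) a' with hw
    have hwp := hfr.proj_perp f a'
    have hdec : a' = f.B a' b • a + w := by
      conv_lhs => rw [f.eq_comb (fun _ : Fin 1 => a) (fun _ : Fin 1 => b) a']
      simp [comb, coA, coB, h0, w]
    have hw0 : w ≠ 0 := fun e0 => hout (by
      rw [hdec, e0, add_zero]; exact Submodule.smul_mem _ _ (Submodule.mem_span_singleton_self a))
    have hQw : f.Q w = 0 := by
      have := hQa'
      rw [hdec, f.Q_add_perp, f.Q_smul, hQa, mul_zero, zero_add] at this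
      · exact this
      · rw [f.smul_left, f.B_comm_zero (hwp.1 0), mul_zero]
    obtain ⟨u, hu, hwu⟩ : ∃ u ∈ U', f.B w u ≠ 0 := by
      by_contra hc
      push Not at hc
      exact hw0 (f.red_inner hU (f.ti_span hQa) (f.ti_span hQb) le_top le_top
        (f.opp_span (by rw [hab]; exact one_ne_zero)) w (f.mem_inner_one.2 ⟨Submodule.mem_top, hwp⟩) hQw hc)
    obtain ⟨c, hc⟩ := f.trace u
    obtain ⟨-, hu1, hu2⟩ := f.mem_inner_one.1 hu
    set b' := (-c) • a + b + u with hb'
    have hQb' : f.Q b' = 0 := by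
      rw [hb', f.Q_add_perp, f.Q_add, f.Q_smul, hQa, hQb, f.smul_left, hab, mul_one, mul_zero, zero_add,
        zero_add, map_neg, hc, neg_add_cancel]
      rw [f.add_left, f.smul_left, f.B_comm_zero (hu1 0), f.B_comm_zero (hu2 0)]
      simp
    have hab' : f.B a b' = 1 := by
      rw [hb', f.add_right, f.add_right, f.smul_right, f.self_zero a hQa, hab, f.B_comm_zero (hu1 0)]
      simp
    have hw1 : f.B w a = 0 := hwp.1 0
    have hw2 : f.B w b = 0 := hwp.2 0
    have hwb' : f.B w b' = f.B w u := by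
      rw [hb', f.add_right, f.add_right, f.smul_right, hw1, hw2, mul_zero, zero_add, zero_add]
    have hne : b ≠ b' := fun e0 => hwu (by rw [← hwb', ← e0, hw2])
    obtain ⟨h, h1, h2, h3, -, h5⟩ := f.exists_root hρ hf hgood hQa hQb hQb' hab hab' hne
    have h6 := hzfix h h1 h2 h3
    rw [hdec, map_add, map_smul, h3, h5 w (hwp.1 0) (hwp.2 0), add_right_inj, sub_eq_self, smul_eq_zero] at h6
    rcases h6 with h6 | h6
    · exact hwu (hwb' ▸ h6)
    · exact ha0 h6
  · -- another point opposite to `a`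
    set b₁ := f.sig (f.B a a')⁻¹ • a' with hb₁
    have haa' : f.B a a' ≠ 0 := fun e0 => h0 (f.B_comm_zero e0)
    have hab₁ : f.B a b₁ = 1 := by rw [hb₁, f.smul_right, f.sig_sig, inv_mul_cancel₀ haa']
    have hQb₁ : f.Q b₁ = 0 := by rw [hb₁, f.Q_smul, hQa', mul_zero]
    obtain ⟨b', hQb', hab', hne⟩ : ∃ b', f.Q b' = 0 ∧ f.B a b' = 1 ∧ b₁ ≠ b' := by
      by_contra hc
      push Not at hc
      have hone : f.opps LinearMap.id (Submodule.span F {a}) ⊤ = {Submodule.span F {b₁}} := by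
        ext X
        rw [Finset.mem_singleton]
        constructor
        · intro hX
          obtain ⟨x, -, hx2, hx3, rfl⟩ := f.opps_line ha0 hQa hX
          rw [hc x hx2 hx3]
        · rintro rfl
          exact f.mem_opps.2 ⟨⟨stb_id _, f.ti_span hQb₁, le_top⟩, f.opp_span (by rw [hab₁]; exact one_ne_zero)⟩
      have hcard := f.card_opps (U := ⊤) Submodule.mem_top Submodule.mem_top hQa hQb₁ hab₁
      rw [hone, Finset.card_singleton] at hcard
      have hdeg := f.deg_rec hU (a := a) (b := b₁) Submodule.mem_top Submodule.mem_top hQa hQb₁ hab₁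
      rw [← hcard] at hdeg
      have hsub : Subsingleton (f.inner ⊤ (Submodule.span F {a}) (Submodule.span F {b₁})) :=
        (Nat.card_eq_one_iff_unique.1 (mul_eq_one.1 hcard.symm).1).1
      rw [f.st_no_singular (U := f.inner ⊤ (Submodule.span F {a}) (Submodule.span F {b₁})) fun v hv _ =>
        congrArg Subtype.val (hsub.elim ⟨v, hv⟩ 0)] at hdeg
      exact hd 1 (Or.inr (by rw [hdeg]; simp)) rfl
    obtain ⟨h, h1, h2, h3, h4, -⟩ := f.exists_root hρ hf hgood hQa hQb₁ hQb' hab₁ hab' hne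
    have h6 := hzfix h h1 h2 h3
    refine hne ?_
    rw [← h4, hb₁, map_smul, h6]

/-- The Steinberg character of a central quotient. -/
theorem steinberg (hρ : Function.Injective ρ) (hU : f.Red ⊤) (hf : f.Full ρ ⊤)
    (hgood : f.Qdet ∨ ((∀ c, f.tau c = 0 → c = 0) ∧ ∀ v, (∀ w, f.B v w = 0) → v = 0))
    (N : Subgroup H) [N.Normal]
    (hN : ∀ h, (∃ k, h ^ p ^ k = 1) → (f.Qdet ∨ Module.finrank F (move (lm ρ h) ⊤) = 2) → h ∈ N)
    (hvan : ∀ h ∈ N, (∃ k, h ^ p ^ k = 1) → f.Qdet ∨ Module.finrank F (move (lm ρ h) ⊤) ≠ 1)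
    (hidx : N.index.Coprime p ∨ (N.index = 2 ∧ ∃ t, t ∉ N ∧ f.st (lm ρ t) ⊤ ≠ 0))
    {G : Type u} [Group G] [Finite G] (e : G ≃* N) :
    ∃ χ : G ⧸ Subgroup.center G → ℂ, IsIrrCharacter (G ⧸ Subgroup.center G) χ ∧
      ∀ P : Sylow p (G ⧸ Subgroup.center G), χ 1 = Nat.card P ∧
        ∀ x : G ⧸ Subgroup.center G, x ∈ P → x ≠ 1 → χ x = 0 := by
  classical
  haveI := Fintype.ofFinite H
  have hp := (Fact.out : p.Prime)
  have hone : lm ρ (1 : H) = LinearMap.id := LinearMap.ext fun v => by show (ρ 1) v = v; rw [map_one]; rfl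
  obtain ⟨ε, hε, j, hj⟩ := f.deg_pow p _ ⊤ rfl hU
  have hdeg : ε * f.st (lm ρ 1) ⊤ = ((p ^ j : ℕ) : ℤ) := by
    rw [hone, hj, ← mul_assoc]
    rcases hε with rfl | rfl <;> simp
  have hirr := f.irr_signed hU hf hε (by rw [hdeg]; exact_mod_cast pow_pos hp.pos j)
  set χH : H → ℂ := fun h => (ε : ℂ) * f.stC ρ ⊤ h with hχH
  have hval1 : χH 1 = ((p ^ j : ℕ) : ℂ) := by
    show (ε : ℂ) * (f.st (lm ρ 1) ⊤ : ℂ) = _
    rw [← Int.cast_mul, hdeg, Int.cast_natCast]
  have hresN : IsIrrCharacter N (fun x : N => χH x) := by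
    rcases hidx with hco | ⟨h2, t, ht, ht0⟩
    · exact GLUnipotent.isIrr_restrict_of_coprime N hirr hval1 (Nat.Coprime.pow_left j hco.symm)
    · refine isIrr_restrict_two N h2 hirr ht (mul_ne_zero ?_ (Int.cast_ne_zero.2 ht0))
      rcases hε with rfl | rfl <;> simp
  have hvanN : ∀ x : N, (∃ k, x ^ p ^ k = 1) → x ≠ 1 → χH x = 0 := by
    rintro x ⟨k, hk⟩ hx
    have hk' : (x : H) ^ p ^ k = 1 := congrArg Subtype.val hk
    show (ε : ℂ) * (f.st (lm ρ (x : H)) ⊤ : ℂ) = 0
    rw [f.st_pelement hρ hf ⟨k, hk'⟩ (fun e0 => hx (Subtype.ext e0)) (hvan x x.2 ⟨k, hk'⟩), Int.cast_zero,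
      mul_zero]
  set χG : G → ℂ := fun x => χH (e x) with hχG
  have hG : IsIrrCharacter G χG := CT.isIrrCharacter_comp e.toMonoidHom e.surjective hresN
  have hG1 : χG 1 = ((p ^ j : ℕ) : ℂ) := by
    show χH ((e 1 : N) : H) = _
    rw [map_one, OneMemClass.coe_one, hval1]
  have hvanG : ∀ x : G, (∃ k, x ^ p ^ k = 1) → x ≠ 1 → χG x = 0 := by
    rintro x ⟨k, hk⟩ hx
    exact hvanN (e x) ⟨k, by rw [← map_pow, hk, map_one]⟩ fun e0 => hx (e.map_eq_one_iff.1 e0)
  set Z := Subgroup.center G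
  by_cases hj0 : j = 0
  · -- no non-trivial elements of `p`-power order
    subst hj0
    refine ⟨fun _ => 1, ?_, fun P => ?_⟩
    · exact CT.isIrrCharacter_one
    · have hG' : ∀ x : G, (∃ k, x ^ p ^ k = 1) → x = 1 := by
        rintro x ⟨k, hk⟩
        by_contra hx
        have h0 := hvanG x ⟨k, hk⟩ hx
        obtain ⟨n, σ, hσ, hσe⟩ := hG
        have hn : n = 1 := by
          have := hG1
          rw [← hσe, Representation.char_one, Module.finrank_fin_fun, pow_zero] at this
          exact_mod_cast this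
        subst hn
        obtain ⟨c, hcs⟩ : ∃ c : ℂ, σ x = c • LinearMap.id := by
          refine ⟨(σ x (fun _ => 1)) 0, LinearMap.ext fun v => funext fun i => ?_⟩
          rw [Subsingleton.elim i 0, show v = v 0 • (fun _ => (1 : ℂ)) from funext fun i => by
            rw [Subsingleton.elim i 0]; simp, map_smul]
          simp [mul_comm]
        have hc0 : c = 0 := by
          rw [← hσe] at h0
          rw [Representation.character, hcs, map_smul, LinearMap.trace_id, Module.finrank_fin_fun] at h0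
          simpa using h0
        have h1' : σ x * σ x⁻¹ = 1 := by rw [← map_mul, mul_inv_cancel, map_one]
        rw [hcs, hc0, zero_smul, zero_mul] at h1'
        have := LinearMap.congr_fun h1' (fun _ => (1 : ℂ))
        exact one_ne_zero (congrFun this 0).symm
      have hP : Nat.card P = 1 := by
        obtain ⟨Q, hQ⟩ := Sylow.mapSurjective_surjective (QuotientGroup.mk'_surjective Z) p P
        rw [← hQ]
        rw [Subgroup.card_eq_one, eq_bot_iff]
        intro y hy
        obtain ⟨x, hx, rfl⟩ := hy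
        obtain ⟨k, hk⟩ := Q.2 ⟨x, hx⟩
        rw [hG' x ⟨k, congrArg Subtype.val hk⟩, map_one]
        exact one_mem _
      refine ⟨by rw [hP, Nat.cast_one], fun x hx hx1 => absurd ?_ hx1⟩
      have hbot := Subgroup.card_eq_one.1 hP
      rw [show x ∈ P ↔ x ∈ (P : Subgroup (G ⧸ Z)) from Iff.rfl, hbot] at hx
      exact hx
  -- the centre fixes every singular point
  have hzero : ∀ z ∈ Z, χG z = χG 1 := by
    intro z hz
    have hfixed : ∀ {a : V}, a ≠ 0 → f.Q a = 0 → lm ρ (e z : H) a ∈ Submodule.span F {a} := fun {a} ha0 hQa => by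
      refine f.fix_point hρ hU hf hgood ?_ (fun h h1 h2 => ?_) ha0 hQa
      · rintro m hm rfl
        rw [hj] at hm
        have : p ^ j = 1 := by
          have h1 : ((p ^ j : ℕ) : ℤ) = 1 ∨ ((p ^ j : ℕ) : ℤ) = -1 := by
            rcases hε with rfl | rfl <;> rcases hm with hm | hm <;> simp at hm ⊢ <;> omega
          omega
        exact hj0 (Nat.pow_eq_one.1 this |>.resolve_left hp.one_lt.ne')
      · have hcz := Subgroup.mem_center_iff.1 hz (e.symm ⟨h, hN h h1 h2⟩)
        have := congrArg (fun x => ((e x : N) : H)) hcz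
        simp only [map_mul, MulEquiv.apply_symm_apply, Subgroup.coe_mul] at this
        exact this.symm
    show (ε : ℂ) * (f.st (lm ρ (e z : H)) ⊤ : ℂ) = (ε : ℂ) * (f.st (lm ρ ((e 1 : N) : H)) ⊤ : ℂ)
    rw [map_one, OneMemClass.coe_one, hone]
    have hst : ∀ T : Submodule F V, f.TI T → Stb (lm ρ (e z : H)) T := fun T hT y hy => by
      rcases eq_or_ne y 0 with rfl | hy0
      · rw [map_zero]; exact T.zero_mem
      · exact (Submodule.span_singleton_le_iff_mem y T).2 hy (hfixed hy0 (hT.1 y hy))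
    congr 2
    unfold st stAbove
    refine Finset.sum_congr ?_ fun T hT => ?_
    · ext T
      simp only [mem_sing]
      exact ⟨fun h => ⟨stb_id _, h.2⟩, fun h => ⟨hst T h.2.1, h.2⟩⟩
    · obtain ⟨-, hTT, -, -⟩ := f.mem_sing.1 hT
      exact mu_congr id id (hst T hTT) bot_le rfl stb_bot (T' := T)
        (fun Y _ _ h2 => ⟨stb_id _, bot_le, h2, rfl⟩)
        (fun Y _ _ h2 => ⟨hst Y (hTT.mono h2), bot_le, h2, rfl⟩) (fun _ _ h => h) (fun _ _ h => h)
  obtain ⟨χ, hχ, hval⟩ := CT.exists_quotient_irr hG Z hzero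
  have h1 : χ 1 = ((p ^ j : ℕ) : ℂ) := by rw [← QuotientGroup.mk_one, hval, hG1]
  have hvanQ : ∀ x : G ⧸ Z, (∃ k, x ^ p ^ k = 1) → x ≠ 1 → χ x = 0 := by
    rintro x ⟨k, hk⟩ hx
    have hpg : IsPGroup p (Subgroup.zpowers x) := by
      obtain ⟨i, -, hi⟩ := (Nat.dvd_prime_pow hp).1 (orderOf_dvd_of_pow_eq_one hk)
      exact IsPGroup.of_card (n := i) (by rw [Nat.card_zpowers, hi])
    obtain ⟨P, hP⟩ := hpg.exists_le_sylow
    obtain ⟨Q, hQ⟩ := Sylow.mapSurjective_surjective (QuotientGroup.mk'_surjective Z) p P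
    have hxP : x ∈ (Q.mapSurjective (QuotientGroup.mk'_surjective Z) : Subgroup (G ⧸ Z)) :=
      hQ.symm ▸ hP (Subgroup.mem_zpowers x)
    obtain ⟨y, hy, rfl⟩ := hxP
    obtain ⟨i, hi⟩ := Q.2 ⟨y, hy⟩
    rw [QuotientGroup.mk'_apply, hval]
    exact hvanG y ⟨i, congrArg Subtype.val hi⟩ fun e0 => hx (by rw [e0, map_one])
  refine ⟨χ, hχ, fun P => ⟨by rw [sylow_card_eq p hχ h1 hvanQ P, h1], fun x hx hx1 => ?_⟩⟩
  obtain ⟨k, hk⟩ := P.2 ⟨x, hx⟩
  exact hvanQ x ⟨k, congrArg Subtype.val hk⟩ hx1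

end Form

end Cfsg.Agent.StPolar
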