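import Mathlib

/-!
Moebius numbers of the lattice of subspaces stable under a linear map, and their complementation formula.
-/

set_option autoImplicit false
set_option linter.unusedSectionVars false

namespace Cfsg.Agent.StPolar

variable {F V : Type*} [Field F] [AddCommGroup V] [Module F V] [Finite V]

/-- A subspace is stable under a linear map. -/
def Stb (g : V →ₗ[F] V) (W : Submodule F V) : Prop := ∀ x ∈ W, g x ∈ W

variable {g : V →ₗ[F] V}

theorem stb_bot : Stb g (⊥ : Submodule F V) := fun x hx => by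
  rw [Submodule.mem_bot] at hx ⊢
  rw [hx, map_zero]

theorem Stb.inf {W W' : Submodule F V} (h : Stb g W) (h' : Stb g W') : Stb g (W ⊓ W') :=
  fun x hx => ⟨h x hx.1, h' x hx.2⟩

theorem Stb.sup {W W' : Submodule F V} (h : Stb g W) (h' : Stb g W') : Stb g (W ⊔ W') := by
  intro x hx
  obtain ⟨y, hy, z, hz, rfl⟩ := Submodule.mem_sup.1 hx
  rw [map_add]
  exact Submodule.add_mem_sup (h y hy) (h' z hz)

/-- The Moebius number of the interval of stable subspaces between `A` and `T`. -/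
noncomputable def mu (g : V →ₗ[F] V) (A T : Submodule F V) : ℤ :=
  letI := Fintype.ofFinite {Y : Submodule F V // Stb g Y ∧ A ≤ Y ∧ Y < T}
  letI := Classical.dec (T = A)
  if T = A then 1 else -∑ Y : {Y : Submodule F V // Stb g Y ∧ A ≤ Y ∧ Y < T}, mu g A Y.1
termination_by Module.finrank F T
decreasing_by
  haveI : Module.Finite F V := Module.Finite.of_finite
  exact Submodule.finrank_lt_finrank_of_lt Y.2.2.2

theorem mu_self (A : Submodule F V) : mu g A A = 1 := by rw [mu]; exact if_pos rfl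

theorem wf_lt : WellFounded ((· < ·) : Submodule F V → Submodule F V → Prop) :=
  Finite.to_wellFoundedLT.wf

variable [Fintype (Submodule F V)]

open scoped Classical in
theorem mu_of_ne {A T : Submodule F V} (h : T ≠ A) :
    mu g A T = -∑ Y ∈ Finset.univ.filter (fun Y => Stb g Y ∧ A ≤ Y ∧ Y < T), mu g A Y := by
  conv_lhs => rw [mu]
  rw [if_neg h]
  congr 1
  exact (Finset.sum_subtype _ (fun x => by simp) _).symm

open scoped Classical in
/-- The defining property. -/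
theorem mu_sum {A T : Submodule F V} (hAT : A ≤ T) (hA : Stb g A) (hT : Stb g T) :
    ∑ Y ∈ Finset.univ.filter (fun Y => Stb g Y ∧ A ≤ Y ∧ Y ≤ T), mu g A Y = if T = A then 1 else 0 := by
  split_ifs with h
  · subst h
    rw [Finset.sum_eq_single T (fun b hb hne => ?_) (fun hT' => ?_), mu_self]
    · simp only [Finset.mem_filter] at hb
      exact absurd (le_antisymm hb.2.2.2 hb.2.2.1) hne
    · exact absurd (Finset.mem_filter.2 ⟨Finset.mem_univ _, hT, le_rfl, le_rfl⟩) hT'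
  · have hins : Finset.univ.filter (fun Y => Stb g Y ∧ A ≤ Y ∧ Y ≤ T) =
        insert T (Finset.univ.filter (fun Y => Stb g Y ∧ A ≤ Y ∧ Y < T)) := by
      ext Y
      simp only [Finset.mem_filter, Finset.mem_univ, true_and, Finset.mem_insert, le_iff_lt_or_eq (a := Y)]
      constructor
      · rintro ⟨h1, h2, h3 | h3⟩
        · exact Or.inr ⟨h1, h2, h3⟩
        · exact Or.inl h3
      · rintro (rfl | ⟨h1, h2, h3⟩)
        · exact ⟨hT, hAT, Or.inr rfl⟩
        · exact ⟨h1, h2, Or.inl h3⟩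
    rw [hins, Finset.sum_insert (by simp), mu_of_ne h, neg_add_cancel]

open scoped Classical in
/-- The Moebius numbers are determined by their defining property. -/
theorem eq_mu {T : Submodule F V} (hT : Stb g T) {f : Submodule F V → ℤ}
    (hf : ∀ T', Stb g T' → T' ≤ T →
      ∑ Y ∈ Finset.univ.filter (fun Y => Stb g Y ∧ Y ≤ T'), f Y = if T' = ⊥ then 1 else 0) :
    f T = mu g ⊥ T := by
  induction T using (wf_lt (F := F) (V := V)).induction with
  | _ T ih =>
    have h1 := hf T hT le_rfl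
    have h2 := mu_sum (g := g) (bot_le (a := T)) stb_bot hT
    simp only [bot_le, true_and] at h2
    have hmem : T ∈ Finset.univ.filter (fun Y => Stb g Y ∧ Y ≤ T) := by simp [hT]
    rw [← h2, ← Finset.add_sum_erase _ _ hmem, ← Finset.add_sum_erase _ _ hmem] at h1
    have h3 : ∑ Y ∈ (Finset.univ.filter (fun Y => Stb g Y ∧ Y ≤ T)).erase T, f Y =
        ∑ Y ∈ (Finset.univ.filter (fun Y => Stb g Y ∧ Y ≤ T)).erase T, mu g ⊥ Y :=
      Finset.sum_congr rfl fun Y hY => by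
        rw [Finset.mem_erase, Finset.mem_filter] at hY
        exact ih Y (lt_of_le_of_ne hY.2.2.2 hY.1) hY.2.2.1 fun T' h h' => hf T' h (h'.trans hY.2.2.2)
    rw [h3] at h1
    exact add_right_cancel h1

open scoped Classical in
/-- Complementation: the Moebius number through a stable subspace. -/
theorem mu_comp {H T : Submodule F V} (hH : Stb g H) (hT : Stb g T) :
    mu g ⊥ T = mu g ⊥ (T ⊓ H) * ∑ X ∈ Finset.univ.filter
      (fun X => Stb g X ∧ X ≤ T ∧ X ⊓ H = ⊥ ∧ X ⊔ T ⊓ H = T), mu g ⊥ X := by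
  refine (eq_mu (f := fun T => mu g ⊥ (T ⊓ H) * ∑ X ∈ Finset.univ.filter
    (fun X => Stb g X ∧ X ≤ T ∧ X ⊓ H = ⊥ ∧ X ⊔ T ⊓ H = T), mu g ⊥ X) hT ?_).symm
  intro T' hT' _
  simp only [Finset.mul_sum]
  rw [Finset.sum_sigma']
  have key : ∀ X Y : Submodule F V, X ⊓ H = ⊥ → Y ≤ H → (X ⊔ Y) ⊓ H = Y := fun X Y hX hY => by
    rw [sup_comm, sup_inf_assoc_of_le X hY, hX, sup_bot_eq]
  rw [Finset.sum_bij'
    (t := (Finset.univ.filter fun X => Stb g X ∧ X ≤ T' ∧ X ⊓ H = ⊥).sigma fun _ =>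
      Finset.univ.filter fun Y => Stb g Y ∧ Y ≤ T' ⊓ H)
    (g := fun p => mu g ⊥ p.2 * mu g ⊥ p.1)
    (fun p _ => ⟨p.2, p.1 ⊓ H⟩) (fun p _ => ⟨p.1 ⊔ p.2, p.1⟩)
    (fun p hp => by
      simp only [Finset.mem_sigma, Finset.mem_filter, Finset.mem_univ, true_and] at hp ⊢
      obtain ⟨⟨h1, h1'⟩, h2, h3, h4, -⟩ := hp
      exact ⟨⟨h2, h3.trans h1', h4⟩, h1.inf hH, inf_le_inf_right H h1'⟩)
    (fun p hp => by
      simp only [Finset.mem_sigma, Finset.mem_filter, Finset.mem_univ, true_and] at hp ⊢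
      obtain ⟨⟨h1, h1', h1''⟩, h2, h3⟩ := hp
      refine ⟨⟨h1.sup h2, sup_le h1' (h3.trans inf_le_left)⟩, h1, le_sup_left, h1'', ?_⟩
      rw [key _ _ h1'' (h3.trans inf_le_right)])
    (fun p hp => by
      simp only [Finset.mem_sigma, Finset.mem_filter, Finset.mem_univ, true_and] at hp
      obtain ⟨-, -, -, -, h5⟩ := hp
      exact Sigma.ext h5 (heq_of_eq rfl))
    (fun p hp => by
      simp only [Finset.mem_sigma, Finset.mem_filter, Finset.mem_univ, true_and] at hp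
      obtain ⟨⟨-, -, h1''⟩, -, h3⟩ := hp
      exact Sigma.ext rfl (heq_of_eq (key _ _ h1'' (h3.trans inf_le_right))))
    (fun p _ => rfl)]
  rw [Finset.sum_sigma]
  simp only [← Finset.sum_mul]
  have hY := mu_sum (g := g) (bot_le (a := T' ⊓ H)) stb_bot (hT'.inf hH)
  simp only [bot_le, true_and] at hY
  simp only [hY]
  by_cases hTH : T' ⊓ H = ⊥
  · rw [if_pos hTH]
    simp only [one_mul]
    have hX := mu_sum (g := g) (bot_le (a := T')) stb_bot hT'
    simp only [bot_le, true_and] at hX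
    rw [← hX]
    refine Finset.sum_congr (Finset.filter_congr fun X _ => ?_) fun _ _ => rfl
    exact ⟨fun h => ⟨h.1, h.2.1⟩, fun h => ⟨h.1, h.2, le_bot_iff.1 (hTH ▸ inf_le_inf_right H h.2)⟩⟩
  · rw [if_neg hTH, if_neg (fun h => hTH (by rw [h, bot_inf_eq]))]
    simp

open scoped Classical in
/-- The Moebius numbers are a two-sided inverse. -/
theorem mu_sum_left {A T : Submodule F V} (hAT : A ≤ T) (hA : Stb g A) (hT : Stb g T) :
    ∑ Y ∈ Finset.univ.filter (fun Y => Stb g Y ∧ A ≤ Y ∧ Y ≤ T), mu g Y T = if T = A then 1 else 0 := by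
  let M : Matrix {W : Submodule F V // Stb g W} {W : Submodule F V // Stb g W} ℤ :=
    Matrix.of fun i j => if i.1 ≤ j.1 then mu g i.1 j.1 else 0
  let Z : Matrix {W : Submodule F V // Stb g W} {W : Submodule F V // Stb g W} ℤ :=
    Matrix.of fun i j => if i.1 ≤ j.1 then 1 else 0
  have hMZ : M * Z = 1 := by
    ext i j
    have e : (M * Z) i j =
        ∑ Y ∈ Finset.univ.filter (fun Y => Stb g Y ∧ i.1 ≤ Y ∧ Y ≤ j.1), mu g i.1 Y := by
      simp only [Matrix.mul_apply, M, Z, Matrix.of_apply, mul_ite, mul_one, mul_zero, ← ite_and]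
      rw [← Finset.sum_filter]
      exact Finset.sum_bij' (fun k _ => k.1) (fun Y hY => ⟨Y, (Finset.mem_filter.1 hY).2.1⟩)
        (fun k hk => by simp only [Finset.mem_filter, Finset.mem_univ, true_and] at hk ⊢; exact ⟨k.2, hk.2, hk.1⟩)
        (fun Y hY => by simp only [Finset.mem_filter, Finset.mem_univ, true_and] at hY ⊢; exact ⟨hY.2.2, hY.2.1⟩)
        (fun _ _ => rfl) (fun _ _ => rfl) (fun _ _ => rfl)
    rw [e]
    by_cases hij : i.1 ≤ j.1
    · rw [mu_sum hij i.2 j.2, Matrix.one_apply]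
      by_cases h : i = j
      · rw [h, if_pos rfl, if_pos rfl]
      · rw [if_neg h, if_neg fun e => h (Subtype.ext e.symm)]
    · rw [Finset.sum_eq_zero fun Y hY => ?_, Matrix.one_apply, if_neg fun h => hij (le_of_eq (by rw [h]))]
      simp only [Finset.mem_filter] at hY
      exact absurd (hY.2.2.1.trans hY.2.2.2) hij
  let a : {W : Submodule F V // Stb g W} := ⟨A, hA⟩
  let t : {W : Submodule F V // Stb g W} := ⟨T, hT⟩
  have h : (Z * M) a t =
      (1 : Matrix {W : Submodule F V // Stb g W} {W : Submodule F V // Stb g W} ℤ) a t := by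
    rw [mul_eq_one_comm.1 hMZ]
  simp only [Matrix.mul_apply, M, Z, Matrix.of_apply, ite_mul, one_mul, zero_mul, ← ite_and, Matrix.one_apply,
    Subtype.ext_iff] at h
  change _ = (if A = T then (1 : ℤ) else 0) at h
  rw [show (if T = A then (1 : ℤ) else 0) = if A = T then 1 else 0 from if_congr eq_comm rfl rfl, ← h,
    ← Finset.sum_filter]
  exact Finset.sum_bij' (fun Y hY => ⟨Y, (Finset.mem_filter.1 hY).2.1⟩) (fun k _ => k.1)
    (fun Y hY => by simp only [Finset.mem_filter, Finset.mem_univ, true_and] at hY ⊢; exact ⟨hY.2.1, hY.2.2⟩)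
    (fun k hk => by simp only [Finset.mem_filter, Finset.mem_univ, true_and] at hk ⊢; exact ⟨k.2, hk.1, hk.2⟩)
    (fun _ _ => rfl) (fun _ _ => rfl) (fun _ _ => rfl)

/-- Isomorphic intervals have the same Moebius numbers. -/
theorem mu_congr {g g' : V →ₗ[F] V} {A A' T T' : Submodule F V} (φ ψ : Submodule F V → Submodule F V)
    (hT : Stb g T) (hAT : A ≤ T) (hAA : φ A = A') (hA : Stb g A)
    (hφ : ∀ Y, Stb g Y → A ≤ Y → Y ≤ T → Stb g' (φ Y) ∧ A' ≤ φ Y ∧ φ Y ≤ T' ∧ ψ (φ Y) = Y)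
    (hψ : ∀ Y, Stb g' Y → A' ≤ Y → Y ≤ T' → Stb g (ψ Y) ∧ A ≤ ψ Y ∧ ψ Y ≤ T ∧ φ (ψ Y) = Y)
    (hmono : ∀ Y Z, Y ≤ Z → φ Y ≤ φ Z) (hmono' : ∀ Y Z, Y ≤ Z → ψ Y ≤ ψ Z) :
    mu g A T = mu g' A' (φ T) := by
  classical
  suffices h : ∀ Y, Stb g Y → A ≤ Y → Y ≤ T → mu g A Y = mu g' A' (φ Y) from h T hT hAT le_rfl
  intro Y
  induction Y using (wf_lt (F := F) (V := V)).induction with
  | _ Y ih =>
    intro hY h1 h2
    obtain ⟨hY', h1', h2', h3'⟩ := hφ Y hY h1 h2
    by_cases e : Y = A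
    · rw [e, hAA, mu_self, mu_self]
    · have e' : φ Y ≠ A' := fun h => e (by rw [← h3', h, ← hAA, (hφ A hA le_rfl hAT).2.2.2])
      rw [mu_of_ne e, mu_of_ne e', neg_inj]
      refine Finset.sum_bij' (fun Z _ => φ Z) (fun Z _ => ψ Z) (fun Z hZ => ?_) (fun Z hZ => ?_)
        (fun Z hZ => ?_) (fun Z hZ => ?_) (fun Z hZ => ?_) <;>
        simp only [Finset.mem_filter, Finset.mem_univ, true_and] at hZ ⊢
      · obtain ⟨a, b, c, d⟩ := hφ Z hZ.1 hZ.2.1 (hZ.2.2.le.trans h2)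
        exact ⟨a, b, lt_of_le_of_ne (hmono _ _ hZ.2.2.le) fun h => hZ.2.2.ne (by rw [← d, h, h3'])⟩
      · obtain ⟨a, b, c, d⟩ := hψ Z hZ.1 hZ.2.1 (hZ.2.2.le.trans h2')
        exact ⟨a, b, lt_of_le_of_ne (h3' ▸ hmono' _ _ hZ.2.2.le) fun h => hZ.2.2.ne (by rw [← d, h])⟩
      · exact (hφ Z hZ.1 hZ.2.1 (hZ.2.2.le.trans h2)).2.2.2
      · exact (hψ Z hZ.1 hZ.2.1 (hZ.2.2.le.trans h2')).2.2.2
      · exact ih Z hZ.2.2 hZ.1 hZ.2.1 (hZ.2.2.le.trans h2)

end Cfsg.Agent.StPolar
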