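import Cfsg.Agent.Lib.SteinbergPolar.Sum

/-!
The norm of the Steinberg sum.
-/

set_option autoImplicit false
set_option linter.unusedSectionVars false
set_option linter.style.haveILetI false
set_option maxHeartbeats 1600000

namespace Cfsg.Agent.StPolar

universe u

variable {F V : Type*} [Field F] [AddCommGroup V] [Module F V] [Finite V] [Fintype (Submodule F V)]

namespace Form

variable (f : Form F V)

theorem st_norm : ∀ (n : ℕ) (U : Submodule F V) {H : Type u} [Group H] [Fintype H] (ρ : H →* (V ≃ₗ[F] V)),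
    Module.finrank F U = n → f.Red U → f.Full ρ U → ∑ h, f.st (lm ρ h) U ^ 2 = Fintype.card H := by
  intro n
  induction n using Nat.strong_induction_on with
  | _ n ih =>
    intro U H _ _ ρ hn hU hf
    classical
    haveI : Module.Finite F V := Module.Finite.of_finite
    by_cases hs : ∃ v ∈ U, f.Q v = 0 ∧ v ≠ 0
    swap
    · push Not at hs
      simp [f.st_no_singular hs]
    letI := subAct ρ
    have hbot : (⊥ : Submodule F V) ∈ f.tis U := by simp [tis, f.ti_bot]
    -- multiply by the sum over all singular subspaces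
    have h1 : ∀ h : H, f.st (lm ρ h) U ^ 2 = f.st (lm ρ h) U -
        ∑ W ∈ ((f.tis U).erase ⊥).filter (fun W => h ∈ stabS ρ W),
          f.st (lm ρ h) U * f.stAbove (lm ρ h) W U := by
      intro h
      have e := f.sum_stAbove (g := lm ρ h) U
      rw [f.sing_bot_eq] at e
      have hb : (⊥ : Submodule F V) ∈ (f.tis U).filter (fun W => h ∈ stabS ρ W) :=
        Finset.mem_filter.2 ⟨hbot, (mem_stabS ρ).2 stb_bot⟩
      rw [← Finset.add_sum_erase _ _ hb, f.stAbove_bot] at e
      rw [← Finset.mul_sum, Finset.filter_erase, pow_two]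
      linear_combination f.st (lm ρ h) U * e
    rw [Finset.sum_congr rfl fun h _ => h1 h, Finset.sum_sub_distrib, f.st_avg hU hf hs, sum_swap]
    -- the pairs of opposite subspaces
    set P : Finset (Submodule F V × Submodule F V) :=
      ((f.tis U).erase ⊥ ×ˢ f.tis U).filter fun p => f.Opp p.1 p.2 with hP
    have h2 : ∀ W ∈ (f.tis U).erase ⊥,
        ∑ h : stabS ρ W, f.st (lm ρ h) U * f.stAbove (lm ρ h) W U =
        ∑ X ∈ (f.tis U).filter (fun X => f.Opp W X),
          ∑ k : ↥((stabS ρ X).subgroupOf (stabS ρ W)),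
            mu (lm ρ (k : H)) ⊥ X * f.st (lm ρ (k : H)) (f.inner U W X) ^ 2 := by
      intro W hW
      obtain ⟨hW0, hWmem⟩ := Finset.mem_erase.1 hW
      simp only [tis, Finset.mem_filter, Finset.mem_univ, true_and] at hWmem
      refine Eq.trans ?_ (sum_swap ((f.tis U).filter fun X => f.Opp W X)
        (fun X => (stabS ρ X).subgroupOf (stabS ρ W))
        (fun (h : stabS ρ W) X => mu (lm ρ (h : H)) ⊥ X * f.st (lm ρ (h : H)) (f.inner U W X) ^ 2))
      refine Finset.sum_congr rfl fun h _ => ?_
      have hWs : Stb (lm ρ h) W := (mem_stabS ρ).1 h.2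
      rw [f.st_rec (hf.1 h) (ρ h).injective (hf.2.1 h) hWs hWmem.1 hWmem.2, Finset.sum_mul]
      refine Finset.sum_congr ?_ fun X hX => ?_
      · ext X
        simp [mem_opps, tis, Subgroup.mem_subgroupOf, mem_stabS, and_comm, and_assoc, and_left_comm]
      · simp only [tis, Finset.mem_filter, Finset.mem_univ, true_and, Subgroup.mem_subgroupOf, mem_stabS] at hX
        rw [f.stAbove_eq (hf.1 h) (ρ h).injective hWs hX.2 hWmem.1 hWmem.2 hX.1.2]
        ring
    rw [Finset.sum_congr rfl h2]
    -- evaluate each pair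
    have h3 : ∀ W ∈ (f.tis U).erase ⊥, ∀ X ∈ (f.tis U).filter (fun X => f.Opp W X),
        ∑ k : ↥((stabS ρ X).subgroupOf (stabS ρ W)),
            mu (lm ρ (k : H)) ⊥ X * f.st (lm ρ (k : H)) (f.inner U W X) ^ 2 =
          if Module.finrank F X = 1 then -(Nat.card ↥(stabS ρ W ⊓ stabS ρ X) : ℤ) else 0 := by
      intro W hW X hX
      obtain ⟨hW0, hWmem⟩ := Finset.mem_erase.1 hW
      simp only [tis, Finset.mem_filter, Finset.mem_univ, true_and] at hWmem hX
      obtain ⟨⟨hXT, hXU⟩, hopp⟩ := hX
      obtain ⟨hWT, hWU⟩ := hWmem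
      set L : Subgroup H := stabS ρ W ⊓ stabS ρ X with hL
      have e : ∑ k : ↥((stabS ρ X).subgroupOf (stabS ρ W)),
            mu (lm ρ (k : H)) ⊥ X * f.st (lm ρ (k : H)) (f.inner U W X) ^ 2 =
          ∑ l : L, mu (lm ρ (l : H)) ⊥ X * f.st (lm ρ (l : H)) (f.inner U W X) ^ 2 :=
        Fintype.sum_equiv
          { toFun := fun k => ⟨k.1.1, k.1.2, k.2⟩
            invFun := fun l => ⟨⟨l.1, l.2.1⟩, l.2.2⟩
            left_inv := fun k => rfl
            right_inv := fun l => rfl } _ _ fun k => rfl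
      rw [e]
      have hfull := f.full_inner hf hWT hXT hWU hXU hopp
      have hX0 : X ≠ ⊥ := fun e0 => hW0 (by
        have := hopp.2
        rwa [e0, f.perp_bot, inf_top_eq] at this)
      by_cases hk : Module.finrank F X = 1
      · rw [if_pos hk]
        have hmu : ∀ l : L, mu (lm ρ (l : H)) ⊥ X = -1 := by
          intro l
          rw [mu_of_ne hX0, Finset.sum_eq_single ⊥ (fun Y hY hne => ?_) (fun hh => ?_), mu_self]
          · simp only [Finset.mem_filter] at hY
            have := Submodule.finrank_lt_finrank_of_lt hY.2.2.2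
            exact absurd (Submodule.finrank_eq_zero.1 (by omega)) hne
          · exact absurd (Finset.mem_filter.2 ⟨Finset.mem_univ _, stb_bot, le_rfl, bot_lt_iff_ne_bot.2 hX0⟩) hh
        simp only [hmu, neg_one_mul, Finset.sum_neg_distrib, neg_inj]
        rw [Nat.card_eq_fintype_card]
        exact ih _ (hn ▸ Submodule.finrank_lt_finrank_of_lt (f.inner_lt hX0 hXU hopp)) _ (ρ.comp L.subtype)
          rfl (f.red_inner hU hWT hXT hWU hXU hopp) hfull
      · rw [if_neg hk]
        set K : Subgroup L := (f.kerInner ρ U W X).subgroupOf L with hK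
        have hKlin : FullLin (ρ.comp (L.subtype.comp K.subtype)) X := by
          obtain ⟨-, hh⟩ := f.fullLin_kerInner hf hWT hXT hWU hXU hopp
          refine ⟨fun k => (mem_stabS ρ).1 k.1.2.2, fun g hg hg0 => ?_⟩
          obtain ⟨k, hk'⟩ := hh g hg hg0
          exact ⟨⟨⟨k.1, k.2.1⟩, k.2⟩, hk'⟩
        have hmu0 : ∑ k : K, mu (lm ρ ((k : L) : H)) ⊥ X = 0 := by
          have := gl_avg _ (ρ.comp (L.subtype.comp K.subtype)) X rfl hKlin
          rw [sAvg, if_neg (fun e0 => hX0 (Submodule.finrank_eq_zero.1 e0)), if_neg hk, mul_zero] at this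
          exact this
        have hinner : ∀ l : L, ∀ k : K, f.st (lm ρ (((k : L) * l : L) : H)) (f.inner U W X) =
            f.st (lm ρ (l : H)) (f.inner U W X) := fun l k => by
          refine (f.st_agree (hfull.2.1 l) fun v hv => ?_).symm
          rw [Subgroup.coe_mul, lm_mul]
          exact ((Subgroup.mem_subgroupOf.1 k.2).2 _ (hfull.2.1 l v hv)).symm
        have hinnermu : ∀ l : L, ∑ k : K, mu (lm ρ (((k : L) * l : L) : H)) ⊥ X = 0 := by
          intro l
          obtain ⟨k₀, hk₀⟩ := hKlin.2 (lm ρ (l : H)) ((mem_stabS ρ).1 l.2.2)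
            (fun x _ h0 => (LinearEquiv.map_eq_zero_iff (ρ (l : H))).1 h0)
          rw [← hmu0, ← Equiv.sum_comp (Equiv.mulRight k₀) fun k : K => mu (lm ρ ((k : L) : H)) ⊥ X]
          refine Finset.sum_congr rfl fun k _ => mu_agree ((mem_stabS ρ).1 (k.1 * l).2.2) fun x hx => ?_
          rw [Equiv.coe_mulRight, Subgroup.coe_mul, Subgroup.coe_mul, Subgroup.coe_mul, lm_mul, lm_mul]
          exact congrArg _ (hk₀ x hx).symm
        set G : L → ℤ := fun l => mu (lm ρ (l : H)) ⊥ X * f.st (lm ρ (l : H)) (f.inner U W X) ^ 2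
        have h4 : (Fintype.card K : ℤ) * ∑ l : L, G l = 0 := by
          have : ∀ k : K, ∑ l : L, G ((k : L) * l) = ∑ l : L, G l := fun k =>
            Equiv.sum_comp (Equiv.mulLeft (k : L)) G
          rw [← Finset.card_univ, ← nsmul_eq_mul, ← Finset.sum_const]
          rw [Finset.sum_congr rfl fun k _ => (this k).symm, Finset.sum_comm]
          refine Finset.sum_eq_zero fun l _ => ?_
          simp only [G, hinner l, ← Finset.sum_mul, hinnermu l, zero_mul]
        rcases mul_eq_zero.1 h4 with e0 | e0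
        · exact absurd (Nat.cast_eq_zero.1 e0) Fintype.card_ne_zero
        · exact e0
    rw [Finset.sum_congr rfl fun W hW => Finset.sum_congr rfl fun X hX => h3 W hW X hX,
      Finset.sum_sigma']
    -- pairs of points form one orbit
    set P1 := P.filter fun p : Submodule F V × Submodule F V => Module.finrank F ↥p.2 = 1 with hP1
    have hbij : ∑ x ∈ ((f.tis U).erase ⊥).sigma fun W => (f.tis U).filter (fun X => f.Opp W X),
        (if Module.finrank F ↥x.2 = 1 then -(Nat.card ↥(stabS ρ x.1 ⊓ stabS ρ x.2) : ℤ) else 0) =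
        -∑ p ∈ P1, (Nat.card (MulAction.stabilizer H p) : ℤ) := by
      rw [← Finset.sum_neg_distrib, hP1, Finset.sum_filter]
      refine Finset.sum_bij' (fun x _ => (x.1, x.2)) (fun p _ => ⟨p.1, p.2⟩) (fun x hx => ?_) (fun p hp => ?_)
        (fun _ _ => rfl) (fun _ _ => rfl) (fun x hx => ?_)
      · simp only [Finset.mem_sigma, Finset.mem_filter] at hx
        rw [hP, Finset.mem_filter, Finset.mem_product]
        exact ⟨⟨hx.1, hx.2.1⟩, hx.2.2⟩
      · rw [hP, Finset.mem_filter, Finset.mem_product] at hp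
        simp only [Finset.mem_sigma, Finset.mem_filter]
        exact ⟨hp.1.1, hp.1.2, hp.2⟩
      · have : MulAction.stabilizer H ((x.1, x.2) : Submodule F V × Submodule F V) = stabS ρ x.1 ⊓ stabS ρ x.2 := by
          ext h
          simp [stabS, Prod.ext_iff]
        rw [this]
    rw [hbij, zero_sub, neg_neg]
    have hline : ∀ p ∈ P1, ∃ a b : V, a ∈ U ∧ b ∈ U ∧ f.Q a = 0 ∧ f.Q b = 0 ∧ f.B a b = 1 ∧
        p.1 = Submodule.span F {a} ∧ p.2 = Submodule.span F {b} := by
      intro p hp
      rw [hP1, Finset.mem_filter, hP, Finset.mem_filter, Finset.mem_product, Finset.mem_erase] at hp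
      simp only [tis, Finset.mem_filter, Finset.mem_univ, true_and] at hp
      obtain ⟨⟨⟨⟨-, hT1, hU1⟩, hT2, hU2⟩, hopp⟩, hd⟩ := hp
      obtain ⟨a, ha, ha0, e1⟩ := line_eq p.1 (((f.exists_pairing hopp).1).trans hd)
      obtain ⟨b, hb, hb0, e2⟩ := line_eq p.2 hd
      have hab : f.B a b ≠ 0 := fun e0 => ha0 (by
        have : a ∈ p.1 ⊓ f.perp p.2 := ⟨ha, by rw [e2]; exact f.mem_perp_span.2 e0⟩
        rwa [hopp.2, Submodule.mem_bot] at this)
      refine ⟨a, f.sig (f.B a b)⁻¹ • b, hU1 ha, Submodule.smul_mem _ _ (hU2 hb), hT1.1 a ha,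
        by rw [f.Q_smul, hT2.1 b hb, mul_zero], ?_, e1, ?_⟩
      · rw [f.smul_right, f.sig_sig, inv_mul_cancel₀ hab]
      · rw [e2, Submodule.span_singleton_smul_eq]
        exact (Ne.isUnit ((map_ne_zero f.sig).2 (inv_ne_zero hab)))
    have hne : P1.Nonempty := by
      obtain ⟨a, ha, hQa, ha0⟩ := hs
      obtain ⟨e, he⟩ := f.exists_frame hU (fun _ : Fin 1 => a) (linearIndependent_unique_iff.2 ha0)
        (fun _ => ha) (by rw [Set.range_const]; exact f.ti_span hQa)
      have hab : f.B a (e 0) = 1 := by have := he.dual 0 0; rwa [if_pos rfl] at this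
      have hb0 : e 0 ≠ 0 := fun h0 => by rw [h0, f.B_zero_right] at hab; exact zero_ne_one hab
      refine ⟨(Submodule.span F {a}, Submodule.span F {e 0}), ?_⟩
      rw [hP1, Finset.mem_filter, hP, Finset.mem_filter, Finset.mem_product, Finset.mem_erase]
      simp only [tis, Finset.mem_filter, Finset.mem_univ, true_and]
      refine ⟨⟨⟨⟨?_, f.ti_span hQa, ?_⟩, f.ti_span (he.sing' 0), ?_⟩, f.opp_span (by rw [hab]; exact one_ne_zero)⟩,
        finrank_span_singleton hb0⟩
      · simpa using ha0
      · rwa [Submodule.span_singleton_le_iff_mem]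
      · rw [Submodule.span_singleton_le_iff_mem]; exact he.mem' 0
    have hinv : ∀ h : H, ∀ p ∈ P1, h • p ∈ P1 := by
      intro h p hp
      obtain ⟨a, b, ha, hb, hQa, hQb, hab, e1, e2⟩ := hline p hp
      have m1 : h • p.1 = Submodule.span F {lm ρ h a} := by
        rw [e1]; show (Submodule.span F {a}).map (lm ρ h) = _
        rw [Submodule.map_span, Set.image_singleton]
      have m2 : h • p.2 = Submodule.span F {lm ρ h b} := by
        rw [e2]; show (Submodule.span F {b}).map (lm ρ h) = _
        rw [Submodule.map_span, Set.image_singleton]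
      have hab' : f.B (lm ρ h a) (lm ρ h b) = 1 := by rw [(hf.1 h).1]; exact hab
      have ha0 : lm ρ h a ≠ 0 := fun h0 => by rw [h0, f.B_zero_left] at hab'; exact zero_ne_one hab'
      have hb0 : lm ρ h b ≠ 0 := fun h0 => by rw [h0, f.B_zero_right] at hab'; exact zero_ne_one hab'
      rw [hP1, Finset.mem_filter, hP, Finset.mem_filter, Finset.mem_product, Finset.mem_erase]
      rw [show (h • p).1 = Submodule.span F {lm ρ h a} from m1,
        show (h • p).2 = Submodule.span F {lm ρ h b} from m2]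
      simp only [tis, Finset.mem_filter, Finset.mem_univ, true_and]
      refine ⟨⟨⟨⟨?_, f.ti_span (by rw [(hf.1 h).2]; exact hQa), ?_⟩, f.ti_span (by rw [(hf.1 h).2]; exact hQb), ?_⟩,
        f.opp_span (by rw [hab']; exact one_ne_zero)⟩, finrank_span_singleton hb0⟩
      · simpa using ha0
      · rw [Submodule.span_singleton_le_iff_mem]; exact hf.2.1 h a ha
      · rw [Submodule.span_singleton_le_iff_mem]; exact hf.2.1 h b hb
    have htr : ∀ p ∈ P1, ∀ p' ∈ P1, ∃ h : H, h • p = p' := by
      intro p hp p' hp'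
      obtain ⟨a, b, ha, hb, hQa, hQb, hab, e1, e2⟩ := hline p hp
      obtain ⟨a', b', ha', hb', hQa', hQb', hab', e1', e2'⟩ := hline p' hp'
      have ha0 : a ≠ 0 := fun h0 => by rw [h0, f.B_zero_left] at hab; exact zero_ne_one hab
      have ha0' : a' ≠ 0 := fun h0 => by rw [h0, f.B_zero_left] at hab'; exact zero_ne_one hab'
      obtain ⟨h, hh⟩ := f.exists_move_point hU hf ha ha' hQa hQa' ha0 ha0'
      obtain ⟨c, hc⟩ := Submodule.mem_span_singleton.1 hh
      have hc0 : c ≠ 0 := fun h0 => ha0 ((LinearEquiv.map_eq_zero_iff (ρ h)).1 (by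
        show lm ρ h a = 0
        rw [← hc, h0, zero_smul]))
      -- now the second points
      set b1 := f.sig c • lm ρ h b with hb1
      have hab1 : f.B a' b1 = 1 := by
        have := (hf.1 h).1 a b
        rw [← hc, f.smul_left, hab] at this
        rw [hb1, f.smul_right, f.sig_sig, this]
      have hfr : f.Frame U (fun _ : Fin 1 => a') (fun _ : Fin 1 => b1) :=
        ⟨fun _ => ha', fun _ => Submodule.smul_mem _ _ (hf.2.1 h b hb), fun _ => hQa',
          fun _ => by rw [hb1, f.Q_smul, (hf.1 h).2, hQb, mul_zero], fun _ _ => f.self_zero _ hQa',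
          fun _ _ => f.self_zero _ (by rw [hb1, f.Q_smul, (hf.1 h).2, hQb, mul_zero]),
          fun i j => by rw [Subsingleton.elim i j, if_pos rfl]; exact hab1⟩
      have hfr' : f.Frame U (fun _ : Fin 1 => a') (fun _ : Fin 1 => b') :=
        ⟨fun _ => ha', fun _ => hb', fun _ => hQa', fun _ => hQb', fun _ _ => f.self_zero _ hQa',
          fun _ _ => f.self_zero _ hQb', fun i j => by rw [Subsingleton.elim i j, if_pos rfl]; exact hab'⟩
      obtain ⟨φ, hφ, hφa, hφb, -⟩ := hfr.exists_move f hfr' fun u _ hu i => hu.1 i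
      obtain ⟨k, hk⟩ := hf.2.2 φ hφ
      refine ⟨k * h, Prod.ext ?_ ?_⟩
      · show (p.1).map (lm ρ (k * h)) = _
        rw [e1, e1', Submodule.map_span, Set.image_singleton, lm_mul, ← hc, map_smul, hk a' ha', hφa 0,
          Submodule.span_singleton_smul_eq (Ne.isUnit hc0)]
      · show (p.2).map (lm ρ (k * h)) = _
        have hb1' : lm ρ k b1 = b' := by
          rw [hk b1 (Submodule.smul_mem _ _ (hf.2.1 h b hb))]; exact hφb 0
        rw [hb1, map_smul] at hb1'
        rw [e2, e2', Submodule.map_span, Set.image_singleton, lm_mul, ← hb1',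
          Submodule.span_singleton_smul_eq (Ne.isUnit ((map_ne_zero f.sig).2 hc0))]
    rw [← Nat.cast_sum, sum_stab_transitive P1 hne hinv htr, Nat.card_eq_fintype_card]

end Form

end Cfsg.Agent.StPolar
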