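import Cfsg.Agent.Lib.SteinbergPolar.Main
import Cfsg.Agent.Lib.Spinor.Rows

/-!
The formed space of a quadratic form and the Steinberg character of its `Omega`.
-/

set_option autoImplicit false
set_option linter.unusedSectionVars false
set_option linter.style.haveILetI false

namespace Cfsg.Agent.StPolar

open Cfsg.Agent.FormsLib

universe u

variable {F : Type u} [Field F] [Fintype F] {ι : Type} [Fintype ι] [DecidableEq ι]

theorem exists_sq_of_two {F : Type*} [Field F] [Finite F] (h2 : (2 : F) = 0) (a : F) : ∃ c, a = c * c :=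
  FiniteField.isSquare_of_char_two (Spinor.ringChar_eq_two h2) a

/-- The formed space of a quadratic form. -/
noncomputable def qfForm (Q : QuadraticForm F (ι → F)) : Form F (ι → F) where
  sig := RingHom.id F
  eps := 1
  tau := AddMonoidHom.id F
  B := QuadraticMap.polar Q
  Q := Q
  sig_sig _ := rfl
  eps_ne := one_ne_zero
  add_left u v w := QuadraticMap.polar_add_left Q u v w
  smul_left c u v := QuadraticMap.polar_smul_left Q c u v
  flip u v := by rw [one_mul, RingHom.id_apply, QuadraticMap.polar_comm]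
  Q_smul c v := by rw [QuadraticMap.map_smul, smul_eq_mul, RingHom.id_apply]
  Q_add u v := quad_add Q u v
  trace v := ⟨Q v, rfl⟩
  self_zero v h := by rw [polar_self', h, mul_zero]
  plane u v hu hv huv := by
    by_cases h : Q u = 0
    · exact ⟨1, 0, fun h => one_ne_zero h.1, by simpa using h⟩
    have h2 : (2 : F) = 0 := by
      have := polar_self' Q u
      rw [hu] at this
      exact (mul_eq_zero.1 this.symm).resolve_right h
    obtain ⟨c, hc⟩ := exists_sq_of_two h2 (Q v / Q u)
    rw [div_eq_iff h] at hc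
    refine ⟨c, 1, fun h => one_ne_zero h.2, ?_⟩
    rw [one_smul, quad_add, QuadraticMap.map_smul, smul_eq_mul, QuadraticMap.polar_smul_left, huv, ← hc,
      smul_eq_mul, mul_zero, add_zero, ← two_mul, h2, zero_mul]

variable {Q : QuadraticForm F (ι → F)} (hQ : (QuadraticMap.polarBilin Q).Nondegenerate)
include hQ

/-- In characteristic two `Omega` is the kernel of the parity of the rank. -/
theorem mem_omega_two (h2 : (2 : F) = 0) (hgen : Spinor.reflGroup Q = ⊤) {v₀ : ι → F} (hv₀ : Q v₀ ≠ 0)
    (g : Cfsg.isometryGroup F ⇑Q) : g ∈ Cfsg.Omega F ⇑Q ↔ Spinor.dick (oEquiv Q g) = 1 := by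
  rw [Spinor.mem_Omega_iff]
  refine ⟨fun h => Abelianization.commutator_subset_ker (Spinor.dickHom hQ hgen) h, fun h => ?_⟩
  have hA : Abelianization.of (oRefl Q v₀ hv₀) * Abelianization.of (oRefl Q v₀ hv₀) = 1 := by
    rw [← map_mul]
    nth_rewrite 1 [← oRefl_inv hv₀]
    rw [inv_mul_cancel, map_one]
  have key : (Abelianization.of : oGroup Q →* Abelianization (oGroup Q)) =
      (Spinor.signTo _ hA).comp (Spinor.dickHom hQ hgen) := by
    refine MonoidHom.eq_of_eqOn_dense hgen ?_
    rintro _ ⟨v, hv, rfl⟩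
    show _ = Spinor.signTo _ hA (Spinor.dick (oRefl Q v hv))
    rw [Spinor.dick_oRefl hQ hv, Spinor.signTo_neg_one]
    exact Spinor.ab_oRefl_eq hQ hv hv₀
      (iff_of_true (exists_sq_of_two h2 _) (exists_sq_of_two h2 _))
  rw [← Abelianization.ker_of, MonoidHom.mem_ker, key]
  show Spinor.signTo _ hA (Spinor.dick (oEquiv Q g)) = 1
  rw [h, map_one]

/-- Without totally singular planes the group is generated by reflections. -/
theorem gen_of_no_plane
    (hs : ∀ W : Submodule F (ι → F), (∀ u ∈ W, Q u = 0) → Module.finrank F W ≤ 1) : Spinor.reflGroup Q = ⊤ := by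
  refine eq_top_iff.2 fun g _ => ?_
  induction hd : Spinor.rk g.1 using Nat.strong_induction_on generalizing g with
  | _ d ih =>
  subst hd
  by_cases h0 : Spinor.rk g.1 = 0
  · rw [show g = 1 from Subtype.ext (Spinor.eq_one_of_rk_eq_zero h0)]
    exact one_mem _
  obtain ⟨z, hz, hQz⟩ : ∃ z ∈ Spinor.mov g.1, Q z ≠ 0 := by
    by_contra hc
    push Not at hc
    have h1 := Spinor.not_rk_eq_one g.2 hQ hc
    have h2 : Spinor.rk g.1 ≤ 1 := hs _ hc
    omega
  have := Spinor.rk_mul_refl_of_mem g.2 hQz hz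
  exact Spinor.mem_reflGroup_of_mul hQz (ih (Spinor.rk (g * oRefl Q z hQz).1) (by
    show Spinor.rk (g.1 * refl Q z hQz) < _
    omega) _ trivial rfl)

omit hQ in
/-- The index of a kernel into the sign groups. -/
theorem index_dvd_four {G : Type*} [Group G] (χ : G →* ℤˣ × ℤˣ) : χ.ker.index ∣ 4 := by
  rw [Subgroup.index_ker]
  have := Subgroup.card_subgroup_dvd_card χ.range
  rwa [Nat.card_prod, Nat.card_eq_fintype_card (α := ℤˣ), Fintype.card_units_int] at this

theorem steinberg_pomega (p : ℕ) [Fact p.Prime] [CharP F p] {v₀ : ι → F} (hv₀ : Q v₀ ≠ 0)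
    (hgen : Spinor.reflGroup Q = ⊤) :
    ∃ χ : Cfsg.POmega F ⇑Q → ℂ, Cfsg.IsIrrCharacter (Cfsg.POmega F ⇑Q) χ ∧
      ∀ P : Sylow p (Cfsg.POmega F ⇑Q), χ 1 = Nat.card P ∧
        ∀ x : Cfsg.POmega F ⇑Q, x ∈ P → x ≠ 1 → χ x = 0 := by
  classical
  letI := Fintype.ofFinite (Submodule F (ι → F))
  have hp := (Fact.out : p.Prime)
  let ρ : Cfsg.isometryGroup F ⇑Q →* ((ι → F) ≃ₗ[F] (ι → F)) :=
    (oGroup Q).subtype.comp (oEquiv Q).toMonoidHom
  set f := qfForm Q
  have hnd : ∀ v, (∀ w, f.B v w = 0) → v = 0 := fun v hv => hQ.1 v hv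
  have hU : f.Red ⊤ := fun v _ _ hv => hnd v fun w => hv w Submodule.mem_top
  have hfull : f.Full ρ ⊤ := by
    refine ⟨fun h => ⟨fun a b => polar_of_mem (oEquiv Q h).2 a b, (oEquiv Q h).2⟩,
      fun h _ _ => Submodule.mem_top, fun g hg => ?_⟩
    have hinj : Function.Injective g := (injective_iff_map_eq_zero g).2 fun v hv => hnd v fun w => by
      rw [← hg.2.1 v Submodule.mem_top w Submodule.mem_top, hv, f.B_zero_left]
    refine ⟨(oEquiv Q).symm ⟨LinearEquiv.ofInjectiveEndo g hinj, fun v => hg.2.2 v Submodule.mem_top⟩,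
      fun v _ => ?_⟩
    show ((oEquiv Q) ((oEquiv Q).symm _)).1 v = g v
    rw [MulEquiv.apply_symm_apply]
    rfl
  have hρ : Function.Injective ρ := fun a b h => (oEquiv Q).injective (Subtype.ext h)
  have hrk : ∀ h, Module.finrank F (Form.move (lm ρ h) ⊤) = Spinor.rk (oEquiv Q h).1 := fun h => by
    rw [Form.move, Submodule.map_top]
    rfl
  by_cases h2 : (2 : F) = 0
  · -- characteristic two
    have hp2 : p = 2 := (CharP.eq F (inferInstance : CharP F p) (ringChar.of_eq (Spinor.ringChar_eq_two h2)))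
    subst hp2
    have hmem := mem_omega_two hQ h2 hgen hv₀
    have hQd : ¬ f.Qdet := fun h => hv₀ (h v₀ (by
      show QuadraticMap.polar Q v₀ v₀ = 0
      rw [polar_self', h2, zero_mul]))
    set t : Cfsg.isometryGroup F ⇑Q := (oEquiv Q).symm (oRefl Q v₀ hv₀) with htdef
    have ht : t ∉ Cfsg.Omega F ⇑Q := by
      rw [hmem, htdef, MulEquiv.apply_symm_apply, Spinor.dick_oRefl hQ hv₀]
      decide
    have hidx : (Cfsg.Omega F ⇑Q).index = 2 := by
      set ψ := (Spinor.dickHom hQ hgen).comp (oEquiv Q).toMonoidHom with hψ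
      have hker : ψ.ker = Cfsg.Omega F ⇑Q := by
        ext g
        rw [hmem, MonoidHom.mem_ker]
        rfl
      have hrange : ψ.range = ⊤ := by
        rw [eq_top_iff]
        intro a _
        rcases Int.units_eq_one_or a with rfl | rfl
        · exact one_mem _
        · exact ⟨t, by
            show Spinor.dick (oEquiv Q t) = -1
            rw [htdef, MulEquiv.apply_symm_apply, Spinor.dick_oRefl hQ hv₀]⟩
      rw [← hker, Subgroup.index_ker, hrange, Subgroup.card_top, Nat.card_eq_fintype_card]
      rfl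
    refine f.steinberg (ρ := ρ) (p := 2) hρ hU hfull (Or.inr ⟨fun c hc => hc, hnd⟩) (Cfsg.Omega F ⇑Q)
      (fun h _ hh => ?_) (fun h hh _ => Or.inr fun h1 => ?_) (Or.inr ⟨hidx, t, ht, ?_⟩) (MulEquiv.refl _)
    · rw [hmem, Spinor.dick, ← hrk, hh.resolve_left hQd]
      rfl
    · rw [hmem, Spinor.dick, ← hrk, h1] at hh
      exact absurd hh (by decide)
    · -- the reflection
      set U : Submodule F (ι → F) := f.perp (Submodule.span F {v₀}) with hUdef
      have hlm : ∀ x, lm ρ t x = x - ((Q v₀)⁻¹ * QuadraticMap.polar Q x v₀) • v₀ := fun x => by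
        show ((oEquiv Q) ((oEquiv Q).symm _)).1 x = _
        rw [MulEquiv.apply_symm_apply]
        exact refl_apply Q hv₀ x
      have hfix : ∀ x ∈ U, lm ρ t x = x := fun x hx => by
        rw [hlm, show QuadraticMap.polar Q x v₀ = 0 from f.mem_perp_span.1 hx, mul_zero, zero_smul, sub_zero]
      have hst : f.st (lm ρ t) ⊤ = f.st LinearMap.id U := by
        unfold Form.st Form.stAbove
        refine Finset.sum_congr ?_ fun T hT => ?_
        · ext T
          simp only [Form.mem_sing, bot_le, le_top, and_true]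
          simp only [true_and]
          refine ⟨fun ⟨hs, hT⟩ => ⟨stb_id _, hT, ?_⟩, fun ⟨_, hT, hTU⟩ => ⟨fun x hx => ?_, hT⟩⟩
          · intro x hx
            rw [hUdef, f.mem_perp_span]
            by_contra hne
            have h3 := Submodule.sub_mem _ hx (hs x hx)
            rw [hlm, sub_sub_cancel] at h3
            have h4 : v₀ ∈ T := by
              have := Submodule.smul_mem _ ((Q v₀)⁻¹ * QuadraticMap.polar Q x v₀)⁻¹ h3
              have hne' : QuadraticMap.polar Q x v₀ ≠ 0 := hne
              rwa [inv_smul_smul₀ (mul_ne_zero (inv_ne_zero hv₀) hne')] at this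
            exact hv₀ (hT.1 v₀ h4)
          · rw [hfix x (hTU hx)]
            exact hx
        · obtain ⟨-, -, -, hTU⟩ := f.mem_sing.1 hT
          exact mu_agree (fun x hx => by rw [hfix x (hTU hx)]; exact hx) fun x hx => hfix x (hTU hx)
      have hUred : f.Red U := by
        intro x hx hQx hxU
        obtain ⟨w, hw⟩ : ∃ w, QuadraticMap.polar Q v₀ w ≠ 0 := by
          by_contra hc
          push Not at hc
          exact hv₀ (by rw [hnd v₀ hc, QuadraticMap.map_zero])
        set c := QuadraticMap.polar Q x w / QuadraticMap.polar Q v₀ w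
        have hxc : x = c • v₀ := by
          refine sub_eq_zero.1 (hnd _ fun y => ?_)
          set k := QuadraticMap.polar Q v₀ y / QuadraticMap.polar Q v₀ w
          have hy : y - k • w ∈ U := f.mem_perp_span.2 (by
            show QuadraticMap.polar Q _ v₀ = 0
            rw [QuadraticMap.polar_comm, QuadraticMap.polar_sub_right, QuadraticMap.polar_smul_right, smul_eq_mul,
              div_mul_cancel₀ _ hw, sub_self])
          have h5 : QuadraticMap.polar Q x (y - k • w) = 0 := hxU _ hy
          rw [QuadraticMap.polar_sub_right, QuadraticMap.polar_smul_right, smul_eq_mul, sub_eq_zero] at h5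
          show QuadraticMap.polar Q (x - c • v₀) y = 0
          rw [QuadraticMap.polar_sub_left, QuadraticMap.polar_smul_left, smul_eq_mul, h5]
          simp only [c, k]
          field_simp
          ring
        have h6 : c * c * Q v₀ = 0 := by
          have : Q x = 0 := hQx
          rwa [hxc, QuadraticMap.map_smul, smul_eq_mul] at this
        rw [hxc, mul_self_eq_zero.1 ((mul_eq_zero.1 h6).resolve_right hv₀), zero_smul]
      rw [hst]
      obtain ⟨ε, hε, j, hj⟩ := f.deg_pow 2 _ U rfl hUred
      rw [hj]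
      rcases hε with rfl | rfl <;> simp
  · -- odd characteristic
    have hQd : f.Qdet := fun v hv => by
      have : QuadraticMap.polar Q v v = 0 := hv
      rw [polar_self'] at this
      exact (mul_eq_zero.1 this).resolve_left h2
    have hexc : Fintype.card F ≠ 2 ∨ Fintype.card ι ≠ 4 := Or.inl (Spinor.card_ne_two h2)
    have hp2 : p ≠ 2 := fun e => h2 (by subst e; exact CharTwo.two_eq_zero)
    let χ : ↥(Cfsg.isometryGroup F ⇑Q) →* ℤˣ × ℤˣ := (OrthRows.dk hQ hexc).prod (OrthRows.sp hQ hexc)
    have hker : χ.ker = Cfsg.Omega F ⇑Q := by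
      ext g
      rw [OrthRows.mem_omega hQ hexc, MonoidHom.mem_ker]
      exact Prod.ext_iff
    have hco : (Cfsg.Omega F ⇑Q).index.Coprime p := by
      rw [← hker]
      refine Nat.Coprime.coprime_dvd_left (index_dvd_four χ) ?_
      rw [show 4 = 2 ^ 2 by norm_num]
      exact Nat.Coprime.pow_left 2 ((Nat.coprime_primes Nat.prime_two hp).2 hp2.symm)
    exact f.steinberg (ρ := ρ) (p := p) hρ hU hfull (Or.inl hQd) (Cfsg.Omega F ⇑Q)
      (fun h hh _ => mem_of_coprime p _ hco hh) (fun _ _ _ => Or.inl hQd) (Or.inl hco) (MulEquiv.refl _)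

end Cfsg.Agent.StPolar
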