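import Cfsg.Agent.Lib.SteinbergPolar.Main
import Cfsg.Agent.S2566

/-!
The character of degree two of `Omega` of the hyperbolic quadric in dimension four over two elements.
-/

set_option autoImplicit false
set_option linter.unusedSectionVars false
set_option linter.style.haveILetI false

namespace Cfsg.Agent.StPolar

open Cfsg.Agent.S2566
open scoped ComplexConjugate commutatorElement

universe u

/-- The symmetric group of degree three on the sum-zero lattice. -/
def m3 (σ : Equiv.Perm (Fin 3)) : Matrix (Fin 2) (Fin 2) ℤ :=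
  fun i j => (if σ j.castSucc = i.castSucc then 1 else 0) - (if σ 2 = i.castSucc then 1 else 0)

theorem m3_mul : ∀ σ τ, m3 (σ * τ) = m3 σ * m3 τ := by decide +kernel
theorem m3_one : m3 1 = 1 := by decide +kernel
theorem m3_sum : ∑ σ : Equiv.Perm (Fin 3), (m3 σ 0 0 + m3 σ 1 1) ^ 2 = 6 := by decide +kernel
theorem m3_two : m3 1 0 0 + m3 1 1 1 = 2 := by decide +kernel
theorem m3_zero : ∀ σ : Equiv.Perm (Fin 3), σ * σ = 1 → σ ≠ 1 → m3 σ 0 0 + m3 σ 1 1 = 0 := by decide +kernel
theorem perm3_center : ∀ σ : Equiv.Perm (Fin 3), (∀ τ, τ * σ = σ * τ) → σ = 1 := by decide +kernel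
theorem perm3_sq : ∀ σ : Equiv.Perm (Fin 3), σ * σ = 1 ∨ (σ ≠ 1 ∧ σ * σ * σ = 1) := by decide +kernel
theorem perm3_not_sq : ∀ σ : Equiv.Perm (Fin 3), σ * σ ≠ Equiv.swap 0 1 := by decide +kernel
theorem perm3_even : ∀ σ : Equiv.Perm (Fin 3), Equiv.Perm.sign σ = 1 → σ * σ * σ = 1 := by decide +kernel

/-- The two-dimensional character of the symmetric group of degree three. -/
noncomputable def chi3 (σ : Equiv.Perm (Fin 3)) : ℂ := ((m3 σ 0 0 + m3 σ 1 1 : ℤ) : ℂ)

theorem chi3_irr : Cfsg.IsIrrCharacter (Equiv.Perm (Fin 3)) chi3 := by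
  let ρ : Representation ℂ (Equiv.Perm (Fin 3)) (Fin 2 → ℂ) :=
    { toFun := fun σ => Matrix.toLinAlgEquiv' ((m3 σ).map (Int.castRingHom ℂ))
      map_one' := by
        rw [m3_one, Matrix.map_one _ (map_zero _) (map_one _), map_one]
      map_mul' := fun σ τ => by
        rw [m3_mul, ← map_mul, Matrix.map_mul] }
  have hch : Cfsg.IsCharacter (Equiv.Perm (Fin 3)) chi3 := ⟨2, ρ, funext fun σ => by
    show LinearMap.trace ℂ _ (Matrix.toLin' ((m3 σ).map (Int.castRingHom ℂ))) = _
    rw [Matrix.trace_toLin'_eq, Matrix.trace_fin_two]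
    simp [chi3]⟩
  refine CT.isIrr_of_inner_self hch ?_
  have h6 : (Nat.card (Equiv.Perm (Fin 3)) : ℂ) = 6 := by
    rw [Nat.card_perm, Nat.card_fin]
    norm_num [Nat.factorial]
  rw [Cfsg.classInner, inv_mul_eq_iff_eq_mul₀ (by rw [h6]; norm_num), mul_one, h6]
  simp only [chi3, map_intCast, ← pow_two]
  exact_mod_cast m3_sum

/-- A non-trivial `p`-element of a quotient is the image of a non-trivial `p`-element. -/
theorem exists_pelement_lift {G : Type*} [Group G] [Finite G] (p : ℕ) [Fact p.Prime] (Z : Subgroup G) [Z.Normal]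
    {x : G ⧸ Z} (hx : ∃ k, x ^ p ^ k = 1) :
    ∃ y : G, (∃ k, y ^ p ^ k = 1) ∧ (y : G ⧸ Z) = x := by
  obtain ⟨k, hk⟩ := hx
  have hpg : IsPGroup p (Subgroup.zpowers x) := by
    obtain ⟨i, -, hi⟩ := (Nat.dvd_prime_pow (Fact.out : p.Prime)).1 (orderOf_dvd_of_pow_eq_one hk)
    exact IsPGroup.of_card (n := i) (by rw [Nat.card_zpowers, hi])
  obtain ⟨P, hP⟩ := hpg.exists_le_sylow
  obtain ⟨Q, hQ⟩ := Sylow.mapSurjective_surjective (QuotientGroup.mk'_surjective Z) p P
  have hxP : x ∈ (Q.mapSurjective (QuotientGroup.mk'_surjective Z) : Subgroup (G ⧸ Z)) :=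
    hQ.symm ▸ hP (Subgroup.mem_zpowers x)
  obtain ⟨y, hy, rfl⟩ := hxP
  obtain ⟨i, hi⟩ := Q.2 ⟨y, hy⟩
  exact ⟨y, ⟨i, congrArg Subtype.val hi⟩, rfl⟩

/-- The two factors together. -/
def pairHom : Equiv.Perm (Fin 3) × Equiv.Perm (Fin 3) →* OO := lhom.noncommCoprod rhom lr_commute

theorem pairHom_inj : Function.Injective pairHom := by
  rw [pairHom, MonoidHom.noncommCoprod_injective]
  refine ⟨lhom_inj, rhom_inj, disjoint_iff.2 ((Subgroup.eq_bot_iff_forall _).2 ?_)⟩
  rintro _ ⟨⟨σ, rfl⟩, ⟨τ, hτ⟩⟩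
  have h : lmat σ = rmat τ := by rw [← lhom_val, ← rhom_val, hτ]
  rw [(lr_eq σ τ h).1, map_one]

theorem card_OO : Nat.card OO = 72 :=
  (Cfsg.Agent.S0287.result (F := ZMod 2) (q := 2) (by simp) 2 (by norm_num)).trans
    (by norm_num [Finset.prod_range_succ])

/-- The interchange. -/
def tO : OO := ⟨⟨tmat, tmat, tmat_sq, tmat_sq⟩, fun u _ => tmat_iso u⟩

theorem tO_sq : tO * tO = 1 := Subtype.ext (Units.ext tmat_sq)

theorem tO_inv : tO⁻¹ = tO := inv_eq_of_mul_eq_one_right tO_sq

theorem tO_pair (σ τ : Equiv.Perm (Fin 3)) : tO * pairHom (σ, τ) * tO = pairHom (τ, σ) := by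
  have h1 : ∀ σ, tO * lhom σ * tO = rhom σ := fun σ => Subtype.ext (Units.ext (by
    show tmat * lmat σ * tmat = rmat σ
    rw [t_conj, mul_assoc, tmat_sq, mul_one]))
  have h2 : ∀ σ, tO * rhom σ * tO = lhom σ := fun σ => by
    rw [← h1, ← mul_assoc, ← mul_assoc, tO_sq, one_mul, mul_assoc, tO_sq, mul_one]
  show tO * (lhom σ * rhom τ) * tO = lhom τ * rhom σ
  calc tO * (lhom σ * rhom τ) * tO = (tO * lhom σ * tO) * (tO * rhom τ * tO) := by
        simp only [mul_assoc]; rw [← mul_assoc tO tO (rhom τ * tO), tO_sq, one_mul]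
    _ = _ := by rw [h1, h2, (lr_commute τ σ).eq]

/-- The product of the two signs. -/
def signProd : Equiv.Perm (Fin 3) × Equiv.Perm (Fin 3) →* ℤˣ :=
  Equiv.Perm.sign.comp (MonoidHom.fst _ _) * Equiv.Perm.sign.comp (MonoidHom.snd _ _)

theorem signProd_apply (a : Equiv.Perm (Fin 3) × Equiv.Perm (Fin 3)) :
    signProd a = Equiv.Perm.sign a.1 * Equiv.Perm.sign a.2 := rfl

theorem range_index : pairHom.range.index = 2 := by
  have h := pairHom.range.index_mul_card
  rw [← Nat.card_congr (MonoidHom.ofInjective pairHom_inj).toEquiv, card_OO, Nat.card_prod, Nat.card_perm,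
    Nat.card_fin] at h
  have : (Nat.factorial 3) = 6 := rfl
  rw [this] at h
  omega

theorem tO_notMem : tO ∉ pairHom.range := by
  rintro ⟨⟨a, b⟩, hab⟩
  have h := tO_pair (Equiv.swap 0 1) 1
  rw [← hab, ← map_mul, ← map_mul] at h
  have h1 := congrArg Prod.snd (pairHom_inj h)
  have h2 : b * b = Equiv.swap 0 1 := by simpa using h1
  exact perm3_not_sq b h2

theorem kerSign_normal : (signProd.ker.map pairHom).Normal := by
  refine ⟨?_⟩
  rintro _ ⟨a, ha, rfl⟩ g
  have hpair : ∀ b, pairHom b * pairHom a * (pairHom b)⁻¹ = pairHom (b * a * b⁻¹) := fun b => by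
    rw [map_mul, map_mul, map_inv]
  have hker : ∀ b, b * a * b⁻¹ ∈ signProd.ker := fun b => signProd.normal_ker.conj_mem a ha b
  by_cases hg : g ∈ pairHom.range
  · obtain ⟨b, rfl⟩ := hg
    exact ⟨_, hker b, (hpair b).symm⟩
  · obtain ⟨b, hb⟩ := (Subgroup.mul_mem_iff_of_index_two range_index (a := tO) (b := g)).2
      (iff_of_false tO_notMem hg)
    have hg' : g = tO * pairHom b := by rw [hb, ← mul_assoc, tO_sq, one_mul]
    refine ⟨((b * a * b⁻¹).2, (b * a * b⁻¹).1), ?_, ?_⟩
    · have h := hker b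
      rw [SetLike.mem_coe, MonoidHom.mem_ker, signProd_apply] at *
      rw [mul_comm]
      exact h
    · rw [← tO_pair, ← hpair, hg', mul_inv_rev, tO_inv]
      simp only [mul_assoc]

theorem commutator_le : commutator OO ≤ signProd.ker.map pairHom := by
  haveI := kerSign_normal
  rw [← Subgroup.Normal.quotient_commutative_iff_commutator_le]
  have hsurj : Function.Surjective signProd := fun u => by
    rcases Int.units_eq_one_or u with rfl | rfl
    · exact ⟨1, map_one _⟩
    · exact ⟨(Equiv.swap 0 1, 1), by simp [signProd_apply]⟩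
  have hidx : signProd.ker.index = 2 := by
    rw [Subgroup.index_ker, MonoidHom.range_eq_top.2 hsurj, Subgroup.card_top, Nat.card_eq_fintype_card]
    rfl
  have hK : Nat.card (OO ⧸ signProd.ker.map pairHom) = 2 ^ 2 := by
    rw [← Subgroup.index_eq_card]
    have h1 := Subgroup.index_mul_card (signProd.ker.map pairHom)
    have h2 := signProd.ker.index_mul_card
    rw [← Nat.card_congr (signProd.ker.equivMapOfInjective pairHom pairHom_inj).toEquiv, card_OO] at h1
    rw [hidx, Nat.card_prod, Nat.card_perm, Nat.card_fin] at h2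
    have h3 : (Nat.factorial 3) = 6 := rfl
    rw [h3] at h2
    have h4 : Nat.card signProd.ker = 18 := by omega
    rw [h4] at h1
    norm_num
    omega
  exact IsPGroup.isMulCommutative_of_card_eq_prime_sq hK

theorem steinberg_plus_four_two {O : Type u} [Group O] [Finite O] (φ : OO ≃* O) :
    ∃ χ : commutator O ⧸ Subgroup.center (commutator O) → ℂ,
      Cfsg.IsIrrCharacter (commutator O ⧸ Subgroup.center (commutator O)) χ ∧
      ∀ P : Sylow 2 (commutator O ⧸ Subgroup.center (commutator O)), χ 1 = Nat.card P ∧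
        ∀ x : commutator O ⧸ Subgroup.center (commutator O), x ∈ P → x ≠ 1 → χ x = 0 := by
  classical
  have hin : ∀ y : commutator O, φ.symm (y : O) ∈ signProd.ker.map pairHom := fun y => by
    refine commutator_le ?_
    have hy : (y : O) ∈ ⁅(⊤ : Subgroup O), (⊤ : Subgroup O)⁆ := by
      rw [← commutator_def]
      exact y.2
    have := Subgroup.mem_map_of_mem φ.symm.toMonoidHom hy
    rw [Subgroup.map_commutator] at this
    rw [commutator_def]
    exact Subgroup.commutator_mono (H₁ := (⊤ : Subgroup O).map φ.symm.toMonoidHom)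
      (H₂ := (⊤ : Subgroup O).map φ.symm.toMonoidHom) le_top le_top this
  let c : commutator O →* pairHom.range :=
    (φ.symm.toMonoidHom.comp (commutator O).subtype).codRestrict pairHom.range fun y => by
      obtain ⟨a, -, ha⟩ := hin y
      exact ⟨a, ha⟩
  let π : commutator O →* Equiv.Perm (Fin 3) :=
    (MonoidHom.fst _ _).comp ((MonoidHom.ofInjective pairHom_inj).symm.toMonoidHom.comp c)
  have hπ : ∀ (y : commutator O) a, φ.symm (y : O) = pairHom a → π y = a.1 := fun y a h => by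
    have : c y = MonoidHom.ofInjective pairHom_inj a := Subtype.ext h
    show ((MonoidHom.ofInjective pairHom_inj).symm (c y)).1 = a.1
    rw [this, MulEquiv.symm_apply_apply]
  have hsurj : Function.Surjective π := fun σ => by
    refine ⟨⟨φ ⁅tO, pairHom (σ⁻¹, 1)⁆, ?_⟩, ?_⟩
    · rw [map_commutatorElement, commutator_def]
      exact Subgroup.commutator_mem_commutator (Subgroup.mem_top _) (Subgroup.mem_top _)
    · refine hπ _ (σ, σ⁻¹) ?_
      show φ.symm (φ ⁅tO, pairHom (σ⁻¹, 1)⁆) = _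
      rw [MulEquiv.symm_apply_apply, commutatorElement_def, tO_inv, tO_pair, ← map_inv, ← map_mul]
      simp
  have hirr := CT.isIrrCharacter_comp π hsurj chi3_irr
  have hcen : ∀ z ∈ Subgroup.center (commutator O), chi3 (π z) = chi3 (π 1) := fun z hz => by
    rw [map_one, perm3_center (π z) fun τ => ?_]
    obtain ⟨y, rfl⟩ := hsurj τ
    rw [← map_mul, ← map_mul, Subgroup.mem_center_iff.1 hz y]
  obtain ⟨χ, hχ, hval⟩ := CT.exists_quotient_irr hirr _ hcen
  have h1 : χ 1 = ((2 ^ 1 : ℕ) : ℂ) := by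
    rw [← QuotientGroup.mk_one, hval, map_one, chi3, m3_two]
    norm_num
  have hvanO : ∀ y : commutator O, (∃ k, y ^ 2 ^ k = 1) → y ≠ 1 → chi3 (π y) = 0 := by
    rintro y ⟨k, hk⟩ hy
    obtain ⟨a, ha, hay⟩ := hin y
    have hπy := hπ y a hay.symm
    have hak : a ^ 2 ^ k = 1 := pairHom_inj (by
      rw [map_pow, hay, ← map_pow, ← SubmonoidClass.coe_pow, hk, OneMemClass.coe_one, map_one, map_one])
    have hsq : ∀ σ : Equiv.Perm (Fin 3), σ ^ 2 ^ k = 1 → σ * σ * σ = 1 → σ = 1 := fun σ h2 h3 => by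
      refine orderOf_eq_one_iff.1 (Nat.eq_one_of_dvd_coprimes (a := 2 ^ k) (b := 3)
        (Nat.Coprime.pow_left k (by norm_num)) (orderOf_dvd_of_pow_eq_one h2)
        (orderOf_dvd_of_pow_eq_one (by rw [pow_succ, pow_two]; exact h3)))
    by_cases hσ : a.1 = 1
    · refine absurd ?_ hy
      have hs : Equiv.Perm.sign a.2 = 1 := by
        have := ha
        rwa [SetLike.mem_coe, MonoidHom.mem_ker, signProd_apply, hσ, map_one, one_mul] at this
      have ha2 : a.2 = 1 := hsq _ (congrArg Prod.snd hak) (perm3_even _ hs)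
      rw [show a = 1 from Prod.ext hσ ha2, map_one] at hay
      exact Subtype.ext (φ.symm.injective (by rw [OneMemClass.coe_one, map_one]; exact hay.symm))
    · rw [hπy, chi3, m3_zero a.1 ?_ hσ, Int.cast_zero]
      rcases perm3_sq a.1 with h | ⟨-, h⟩
      · exact h
      · exact absurd (hsq _ (congrArg Prod.fst hak) h) hσ
  have hvanQ : ∀ x, (∃ k, x ^ 2 ^ k = 1) → x ≠ 1 → χ x = 0 := fun x hk hx => by
    obtain ⟨y, hy, rfl⟩ := exists_pelement_lift 2 _ hk
    rw [hval]
    exact hvanO y hy fun e => hx (by rw [e, QuotientGroup.mk_one])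
  refine ⟨χ, hχ, fun P => ⟨by rw [sylow_card_eq 2 hχ h1 hvanQ P, h1], fun x hx hx1 => ?_⟩⟩
  obtain ⟨k, hk⟩ := P.2 ⟨x, hx⟩
  exact hvanQ x ⟨k, congrArg Subtype.val hk⟩ hx1

end Cfsg.Agent.StPolar
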