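import Cfsg.Agent.Lib.SteinbergPolar.Moebius

/-!
Formed spaces, totally singular subspaces, and the Steinberg sum of a subspace with its recursion
through an opposite subspace.
-/

set_option autoImplicit false
set_option linter.unusedSectionVars false

namespace Cfsg.Agent.StPolar

variable {F V : Type*} [Field F] [AddCommGroup V] [Module F V]

/-- A reflexive sesquilinear form with a compatible quadratic function. -/
structure Form (F V : Type*) [Field F] [AddCommGroup V] [Module F V] where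
  sig : F →+* F
  eps : F
  tau : F →+ F
  B : V → V → F
  Q : V → F
  sig_sig : ∀ x, sig (sig x) = x
  eps_ne : eps ≠ 0
  add_left : ∀ u v w, B (u + v) w = B u w + B v w
  smul_left : ∀ c u v, B (c • u) v = c * B u v
  flip : ∀ u v, B v u = eps * sig (B u v)
  Q_smul : ∀ c v, Q (c • v) = c * sig c * Q v
  Q_add : ∀ u v, Q (u + v) = Q u + Q v + tau (B u v)
  trace : ∀ v, ∃ c, tau c = Q v
  self_zero : ∀ v, Q v = 0 → B v v = 0
  plane : ∀ u v, B u u = 0 → B v v = 0 → B u v = 0 →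
    ∃ c d : F, ¬ (c = 0 ∧ d = 0) ∧ Q (c • u + d • v) = 0

theorem basis_sum {ι : Type*} [Fintype ι] {X : Submodule F V} (x : Module.Basis ι F X) {y : V} (hy : y ∈ X) :
    y = ∑ i, (x.repr ⟨y, hy⟩ i) • ((x i : X) : V) := by
  conv_lhs => rw [show y = ((⟨y, hy⟩ : X) : V) from rfl, ← x.sum_repr ⟨y, hy⟩]
  simp only [Submodule.coe_sum, Submodule.coe_smul]

namespace Form

variable (f : Form F V)

theorem B_zero_left (v : V) : f.B 0 v = 0 := by
  have := f.smul_left 0 0 v
  rwa [zero_smul, zero_mul] at this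

theorem B_zero_right (v : V) : f.B v 0 = 0 := by rw [f.flip 0 v, f.B_zero_left, map_zero, mul_zero]

theorem add_right (u v w : V) : f.B u (v + w) = f.B u v + f.B u w := by
  rw [f.flip (v + w) u, f.add_left, map_add, mul_add, ← f.flip, ← f.flip]

theorem smul_right (c : F) (u v : V) : f.B u (c • v) = f.sig c * f.B u v := by
  rw [f.flip (c • v) u, f.smul_left, map_mul, f.flip v u]
  ring

theorem sig_eps : f.sig f.eps * f.eps = 1 ∨ ∀ u v, f.B u v = 0 := by
  refine or_iff_not_imp_right.2 fun h => ?_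
  push Not at h
  obtain ⟨u, v, h⟩ := h
  have e := f.flip v u
  rw [f.flip u v, map_mul, f.sig_sig] at e
  rw [← mul_assoc, mul_comm f.eps] at e
  exact mul_right_cancel₀ h (by rw [one_mul]; exact e.symm)

theorem B_comm_zero {u v : V} (h : f.B u v = 0) : f.B v u = 0 := by rw [f.flip u v, h, map_zero, mul_zero]

/-- The form in its first variable. -/
def lin (v : V) : V →ₗ[F] F where
  toFun u := f.B u v
  map_add' a b := f.add_left a b v
  map_smul' c a := f.smul_left c a v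

theorem lin_apply (u v : V) : f.lin v u = f.B u v := rfl

theorem sum_left {ι : Type*} (s : Finset ι) (x : ι → V) (v : V) :
    f.B (∑ i ∈ s, x i) v = ∑ i ∈ s, f.B (x i) v := map_sum (f.lin v) x s

theorem sum_right {ι : Type*} (s : Finset ι) (u : V) (x : ι → V) :
    f.B u (∑ i ∈ s, x i) = ∑ i ∈ s, f.B u (x i) := by
  rw [f.flip (∑ i ∈ s, x i) u, f.sum_left, map_sum, Finset.mul_sum]
  exact Finset.sum_congr rfl fun i _ => (f.flip _ _).symm

theorem sub_left (u v w : V) : f.B (u - v) w = f.B u w - f.B v w := map_sub (f.lin w) u v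

theorem sub_right (u v w : V) : f.B u (v - w) = f.B u v - f.B u w := by
  rw [f.flip (v - w) u, f.sub_left, map_sub, mul_sub, ← f.flip, ← f.flip]

theorem Q_zero : f.Q 0 = 0 := by
  have := f.Q_smul 0 0
  rwa [zero_smul, zero_mul, zero_mul] at this

theorem Q_add_perp {u v : V} (h : f.B u v = 0) : f.Q (u + v) = f.Q u + f.Q v := by
  rw [f.Q_add, h, map_zero, add_zero]

/-- The orthogonal complement. -/
def perp (W : Submodule F V) : Submodule F V where
  carrier := {v | ∀ w ∈ W, f.B v w = 0}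
  add_mem' ha hb w hw := by rw [f.add_left, ha w hw, hb w hw, add_zero]
  zero_mem' w _ := f.B_zero_left w
  smul_mem' c a ha w hw := by rw [f.smul_left, ha w hw, mul_zero]

theorem mem_perp {W : Submodule F V} {v : V} : v ∈ f.perp W ↔ ∀ w ∈ W, f.B v w = 0 := Iff.rfl

theorem perp_anti {W W' : Submodule F V} (h : W ≤ W') : f.perp W' ≤ f.perp W :=
  fun _ hv w hw => hv w (h hw)

theorem perp_bot : f.perp ⊥ = ⊤ := by
  refine eq_top_iff.2 fun v _ w hw => ?_
  rw [Submodule.mem_bot] at hw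
  rw [hw, f.B_zero_right]

/-- Totally singular. -/
def TI (W : Submodule F V) : Prop := (∀ v ∈ W, f.Q v = 0) ∧ W ≤ f.perp W

theorem TI.mono {f : Form F V} {W W' : Submodule F V} (h : f.TI W) (h' : W' ≤ W) : f.TI W' :=
  ⟨fun v hv => h.1 v (h' hv), h'.trans (h.2.trans (f.perp_anti h'))⟩

theorem ti_bot : f.TI ⊥ :=
  ⟨fun v hv => by rw [(Submodule.mem_bot F).1 hv, f.Q_zero], bot_le⟩

theorem TI.sup {f : Form F V} {W W' : Submodule F V} (h : f.TI W) (h' : f.TI W') (hp : W ≤ f.perp W') :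
    f.TI (W ⊔ W') := by
  constructor
  · intro v hv
    obtain ⟨y, hy, z, hz, rfl⟩ := Submodule.mem_sup.1 hv
    rw [f.Q_add_perp (hp hy z hz), h.1 y hy, h'.1 z hz, add_zero]
  · intro v hv w hw
    obtain ⟨y, hy, z, hz, rfl⟩ := Submodule.mem_sup.1 hv
    obtain ⟨y', hy', z', hz', rfl⟩ := Submodule.mem_sup.1 hw
    rw [f.add_left, f.add_right, f.add_right, h.2 hy y' hy', hp hy z' hz', h'.2 hz z' hz',
      f.B_comm_zero (hp hy' z hz)]
    simp

theorem ti_span {a : V} (ha : f.Q a = 0) : f.TI (Submodule.span F {a}) := by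
  constructor
  · intro v hv
    obtain ⟨c, rfl⟩ := Submodule.mem_span_singleton.1 hv
    rw [f.Q_smul, ha, mul_zero]
  · intro v hv w hw
    obtain ⟨c, rfl⟩ := Submodule.mem_span_singleton.1 hv
    obtain ⟨d, rfl⟩ := Submodule.mem_span_singleton.1 hw
    rw [f.smul_left, f.smul_right, f.self_zero a ha, mul_zero, mul_zero]

theorem mem_perp_span {a v : V} : v ∈ f.perp (Submodule.span F {a}) ↔ f.B v a = 0 := by
  refine ⟨fun h => h a (Submodule.mem_span_singleton_self a), fun h w hw => ?_⟩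
  obtain ⟨c, rfl⟩ := Submodule.mem_span_singleton.1 hw
  rw [f.smul_right, h, mul_zero]

/-- A linear map preserves the form. -/
def Iso (g : V →ₗ[F] V) : Prop := (∀ u v, f.B (g u) (g v) = f.B u v) ∧ ∀ v, f.Q (g v) = f.Q v

/-- A linear map preserves the form on a subspace. -/
def IsoOn (U : Submodule F V) (g : V →ₗ[F] V) : Prop :=
  (∀ u ∈ U, g u ∈ U) ∧ (∀ u ∈ U, ∀ v ∈ U, f.B (g u) (g v) = f.B u v) ∧ ∀ v ∈ U, f.Q (g v) = f.Q v

/-- No non-zero singular vector of `U` is orthogonal to all of `U`. -/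
def Red (U : Submodule F V) : Prop := ∀ v ∈ U, f.Q v = 0 → v ∈ f.perp U → v = 0

/-- Opposite subspaces. -/
def Opp (W X : Submodule F V) : Prop := X ⊓ f.perp W = ⊥ ∧ W ⊓ f.perp X = ⊥

theorem Opp.symm {f : Form F V} {W X : Submodule F V} (h : f.Opp W X) : f.Opp X W := ⟨h.2, h.1⟩

theorem opp_span {a b : V} (h : f.B a b ≠ 0) : f.Opp (Submodule.span F {a}) (Submodule.span F {b}) := by
  have key : ∀ a b : V, f.B a b ≠ 0 → Submodule.span F {a} ⊓ f.perp (Submodule.span F {b}) = ⊥ := by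
    intro a b h
    rw [eq_bot_iff]
    rintro x ⟨hx, hx'⟩
    obtain ⟨c, rfl⟩ := Submodule.mem_span_singleton.1 hx
    have := f.mem_perp_span.1 hx'
    rw [f.smul_left] at this
    rcases mul_eq_zero.1 this with e | e
    · simp [e]
    · exact absurd e h
  exact ⟨key b a fun e => h (f.B_comm_zero e), key a b h⟩

variable [Finite V]

theorem stb_perp {g : V →ₗ[F] V} (hg : f.Iso g) (hinj : Function.Injective g) {W : Submodule F V}
    (hW : Stb g W) : Stb g (f.perp W) := by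
  intro v hv w hw
  let e : W → W := fun w => ⟨g w, hW w w.2⟩
  obtain ⟨w', hw'⟩ := (Finite.injective_iff_surjective.1
    (fun a b h => Subtype.ext (hinj (congrArg Subtype.val h)) : Function.Injective e)) ⟨w, hw⟩
  have : g w'.1 = w := congrArg Subtype.val hw'
  rw [← this, hg.1]
  exact hv w'.1 w'.2

/-- Pairing with a basis of an opposite subspace. -/
theorem exists_pairing {W X : Submodule F V} (h : f.Opp W X) :
    Module.finrank F W = Module.finrank F X ∧
      ∀ {k : ℕ} (x : Module.Basis (Fin k) F X) (c : Fin k → F), ∃ w ∈ W, ∀ i, f.B w (x i) = c i := by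
  haveI : Module.Finite F V := Module.Finite.of_finite
  have hle : ∀ W X : Submodule F V, W ⊓ f.perp X = ⊥ → ∀ {k : ℕ} (x : Module.Basis (Fin k) F X),
      Function.Injective ((LinearMap.pi fun i => f.lin ((x i : X) : V)).comp W.subtype) := by
    intro W X hWX k x
    rw [← LinearMap.ker_eq_bot, LinearMap.ker_eq_bot']
    intro w hw
    have : (w : V) ∈ W ⊓ f.perp X := ⟨w.2, fun y hy => by
      rw [basis_sum x hy, f.sum_right]
      refine Finset.sum_eq_zero fun i _ => ?_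
      rw [f.smul_right, show f.B w.1 ((x i : X) : V) = 0 from congrFun hw i, mul_zero]⟩
    rw [hWX, Submodule.mem_bot] at this
    exact Subtype.ext this
  have h1 : Module.finrank F W ≤ Module.finrank F X := by
    have := LinearMap.finrank_le_finrank_of_injective (hle W X h.2 (Module.finBasis F X))
    rwa [Module.finrank_fintype_fun_eq_card, Fintype.card_fin] at this
  have h2 : Module.finrank F X ≤ Module.finrank F W := by
    have := LinearMap.finrank_le_finrank_of_injective (hle X W h.1 (Module.finBasis F W))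
    rwa [Module.finrank_fintype_fun_eq_card, Fintype.card_fin] at this
  refine ⟨le_antisymm h1 h2, fun {k} x c => ?_⟩
  obtain ⟨w, hw⟩ := (LinearMap.injective_iff_surjective_of_finrank_eq_finrank (by
    rw [Module.finrank_fintype_fun_eq_card, le_antisymm h1 h2, Module.finrank_eq_card_basis x])).1
      (hle W X h.2 x) c
  exact ⟨w, w.2, fun i => congrFun hw i⟩

theorem Opp.exists_proj {f : Form F V} {W X : Submodule F V} (h : f.Opp W X) (v : V) :
    ∃ w ∈ W, v - w ∈ f.perp X := by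
  haveI : Module.Finite F V := Module.Finite.of_finite
  obtain ⟨w, hw, hwv⟩ := (f.exists_pairing h).2 (Module.finBasis F X) fun i => f.B v (Module.finBasis F X i)
  refine ⟨w, hw, fun y hy => ?_⟩
  rw [basis_sum (Module.finBasis F X) hy, f.sum_right]
  refine Finset.sum_eq_zero fun i _ => ?_
  rw [f.smul_right, f.sub_left, hwv, sub_self, mul_zero]

/-- The orthogonal part opposite to `W` and `X`. -/
def inner (U W X : Submodule F V) : Submodule F V := U ⊓ f.perp W ⊓ f.perp X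

theorem inner_le (U W X : Submodule F V) : f.inner U W X ≤ U := inf_le_left.trans inf_le_left

theorem stb_inner {g : V →ₗ[F] V} (hg : f.Iso g) (hinj : Function.Injective g) {U W X : Submodule F V}
    (hU : Stb g U) (hW : Stb g W) (hX : Stb g X) : Stb g (f.inner U W X) :=
  (hU.inf (f.stb_perp hg hinj hW)).inf (f.stb_perp hg hinj hX)

variable [Fintype (Submodule F V)]

open scoped Classical in
/-- The totally singular stable subspaces between `W` and `U`. -/
noncomputable def sing (g : V →ₗ[F] V) (W U : Submodule F V) : Finset (Submodule F V) :=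
  Finset.univ.filter fun T => Stb g T ∧ f.TI T ∧ W ≤ T ∧ T ≤ U

theorem mem_sing {g : V →ₗ[F] V} {W U T : Submodule F V} :
    T ∈ f.sing g W U ↔ Stb g T ∧ f.TI T ∧ W ≤ T ∧ T ≤ U := by simp [sing]

/-- The Steinberg sum above `W`. -/
noncomputable def stAbove (g : V →ₗ[F] V) (W U : Submodule F V) : ℤ := ∑ T ∈ f.sing g W U, mu g W T

/-- The Steinberg sum. -/
noncomputable def st (g : V →ₗ[F] V) (U : Submodule F V) : ℤ := f.stAbove g ⊥ U

/-- The Steinberg sum vanishes when a stable singular subspace lies in the radical. -/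
theorem st_eq_zero {g : V →ₗ[F] V} {U A : Submodule F V} (hA : Stb g A) (hA0 : A ≠ ⊥) (hAU : A ≤ U)
    (hAT : f.TI A) (hrad : U ≤ f.perp A) : f.st g U = 0 := by
  classical
  have key : ∀ K, Stb g K → A ≤ K →
      ∑ Y ∈ Finset.univ.filter (fun Y => Stb g Y ∧ Y ⊔ A = K), mu g ⊥ Y = 0 := by
    intro K
    induction K using (wf_lt (F := F) (V := V)).induction with
    | _ K ih =>
      intro hK hAK
      have hK0 : K ≠ ⊥ := fun e => hA0 (le_bot_iff.1 (e ▸ hAK))
      have h1 := mu_sum (g := g) (bot_le (a := K)) stb_bot hK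
      rw [if_neg hK0] at h1
      rw [← Finset.sum_fiberwise_of_maps_to (g := fun Y => Y ⊔ A)
        (t := Finset.univ.filter fun K' => Stb g K' ∧ A ≤ K' ∧ K' ≤ K) (fun Y hY => by
          simp only [Finset.mem_filter, Finset.mem_univ, true_and] at hY ⊢
          exact ⟨hY.1.sup hA, le_sup_right, sup_le hY.2.2 hAK⟩)] at h1
      have hfib : ∀ K' ∈ Finset.univ.filter (fun K' => Stb g K' ∧ A ≤ K' ∧ K' ≤ K),
          ∑ Y ∈ (Finset.univ.filter fun Y => Stb g Y ∧ ⊥ ≤ Y ∧ Y ≤ K).filter (fun Y => Y ⊔ A = K'),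
            mu g ⊥ Y = ∑ Y ∈ Finset.univ.filter (fun Y => Stb g Y ∧ Y ⊔ A = K'), mu g ⊥ Y := by
        intro K' hK'
        simp only [Finset.mem_filter, Finset.mem_univ, true_and] at hK'
        refine Finset.sum_congr ?_ fun _ _ => rfl
        ext Y
        simp only [Finset.mem_filter, Finset.mem_univ, true_and, bot_le]
        exact ⟨fun h => ⟨h.1.1, h.2⟩, fun h => ⟨⟨h.1, le_trans le_sup_left (h.2.le.trans hK'.2.2)⟩, h.2⟩⟩
      rw [Finset.sum_congr rfl hfib, Finset.sum_eq_single K (fun K' hK' hne => ?_) (fun h => ?_)] at h1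
      · exact h1
      · simp only [Finset.mem_filter, Finset.mem_univ, true_and] at hK'
        exact ih K' (lt_of_le_of_ne hK'.2.2 hne) hK'.1 hK'.2.1
      · exact absurd (Finset.mem_filter.2 ⟨Finset.mem_univ _, hK, hAK, le_rfl⟩) h
  unfold st stAbove
  rw [← Finset.sum_fiberwise_of_maps_to (g := fun Y => Y ⊔ A) (t := f.sing g A U) (fun Y hY => by
    rw [mem_sing] at hY ⊢
    exact ⟨hY.1.sup hA, hY.2.1.sup hAT (hY.2.2.2.trans hrad), le_sup_right, sup_le hY.2.2.2 hAU⟩)]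
  refine Finset.sum_eq_zero fun K hK => ?_
  rw [mem_sing] at hK
  refine Eq.trans (Finset.sum_congr ?_ fun _ _ => rfl) (key K hK.1 hK.2.2.1)
  ext Y
  simp only [Finset.mem_filter, Finset.mem_univ, true_and, mem_sing, bot_le]
  refine ⟨fun h => ⟨h.1.1, h.2⟩, fun h => ⟨⟨h.1, hK.2.1.mono ?_, le_trans ?_ hK.2.2.2⟩, h.2⟩⟩ <;>
    exact le_sup_left.trans h.2.le

open scoped Classical in
/-- The opposites of `W` inside `U`. -/
noncomputable def opps (g : V →ₗ[F] V) (W U : Submodule F V) : Finset (Submodule F V) :=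
  (f.sing g ⊥ U).filter fun X => f.Opp W X

theorem mem_opps {g : V →ₗ[F] V} {W U X : Submodule F V} :
    X ∈ f.opps g W U ↔ (Stb g X ∧ f.TI X ∧ X ≤ U) ∧ f.Opp W X := by
  simp [opps, mem_sing]

/-- The recursion through a stable totally singular subspace. -/
theorem st_rec {g : V →ₗ[F] V} (hg : f.Iso g) (hinj : Function.Injective g) {U W : Submodule F V}
    (hU : Stb g U) (hW : Stb g W) (hWT : f.TI W) (hWU : W ≤ U) :
    f.st g U = ∑ X ∈ f.opps g W U, mu g ⊥ X * f.st g (f.inner U W X) := by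
  classical
  set H := f.perp W with hH
  have hHs : Stb g H := f.stb_perp hg hinj hW
  have hcomp : ∀ T ∈ f.sing g ⊥ U, mu g ⊥ T = ∑ X ∈ Finset.univ.filter
      (fun X => Stb g X ∧ X ≤ T ∧ X ⊓ H = ⊥ ∧ X ⊔ T ⊓ H = T), mu g ⊥ (T ⊓ H) * mu g ⊥ X := by
    intro T hT
    rw [mem_sing] at hT
    rw [mu_comp hHs hT.1, Finset.mul_sum]
  unfold st stAbove
  rw [Finset.sum_congr rfl hcomp, Finset.sum_sigma']
  have key : ∀ X Y : Submodule F V, X ⊓ H = ⊥ → Y ≤ H → (X ⊔ Y) ⊓ H = Y := fun X Y hX hY => by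
    rw [sup_comm, sup_inf_assoc_of_le X hY, hX, sup_bot_eq]
  rw [Finset.sum_bij'
    (t := ((f.sing g ⊥ U).filter fun X => X ⊓ H = ⊥).sigma fun X => f.sing g ⊥ (f.inner U W X))
    (g := fun p => mu g ⊥ p.2 * mu g ⊥ p.1)
    (fun p _ => ⟨p.2, p.1 ⊓ H⟩) (fun p _ => ⟨p.1 ⊔ p.2, p.1⟩)
    (fun p hp => by
      simp only [Finset.mem_sigma, Finset.mem_filter, Finset.mem_univ, true_and, mem_sing, bot_le] at hp ⊢
      obtain ⟨⟨hT, hTT, hTU⟩, h2, h3, h4, -⟩ := hp
      refine ⟨⟨⟨h2, hTT.mono h3, h3.trans hTU⟩, h4⟩, hT.inf hHs, hTT.mono inf_le_left, ?_⟩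
      exact le_inf (le_inf (inf_le_left.trans hTU) inf_le_right)
        (inf_le_left.trans (hTT.2.trans (f.perp_anti h3))))
    (fun p hp => by
      simp only [Finset.mem_sigma, Finset.mem_filter, Finset.mem_univ, true_and, mem_sing, bot_le] at hp ⊢
      obtain ⟨⟨⟨hX, hXT, hXU⟩, h4⟩, hY, hYT, hYin⟩ := hp
      refine ⟨⟨hX.sup hY, ?_, sup_le hXU (hYin.trans (f.inner_le _ _ _))⟩, hX, le_sup_left, h4, ?_⟩
      · rw [sup_comm]; exact hYT.sup hXT (hYin.trans inf_le_right)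
      · rw [key _ _ h4 (hYin.trans (inf_le_left.trans inf_le_right))])
    (fun p hp => by
      simp only [Finset.mem_sigma, Finset.mem_filter, Finset.mem_univ, true_and] at hp
      obtain ⟨-, -, -, -, h5⟩ := hp
      exact Sigma.ext h5 (heq_of_eq rfl))
    (fun p hp => by
      simp only [Finset.mem_sigma, Finset.mem_filter, Finset.mem_univ, true_and, mem_sing] at hp
      obtain ⟨⟨-, h4⟩, -, -, -, hYin⟩ := hp
      exact Sigma.ext rfl (heq_of_eq (key _ _ h4 (hYin.trans (inf_le_left.trans inf_le_right)))))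
    (fun p _ => rfl)]
  rw [Finset.sum_sigma]
  simp only [← Finset.sum_mul]
  rw [← Finset.sum_filter_add_sum_filter_not ((f.sing g ⊥ U).filter fun X => X ⊓ H = ⊥) (fun X => f.Opp W X)]
  rw [show ((f.sing g ⊥ U).filter fun X => X ⊓ H = ⊥).filter (fun X => f.Opp W X) = f.opps g W U from by
    ext X
    simp only [Finset.mem_filter, opps]
    exact ⟨fun h => ⟨h.1.1, h.2⟩, fun h => ⟨⟨h.1, h.2.1⟩, h.2⟩⟩]
  rw [Finset.sum_eq_zero (s := (((f.sing g ⊥ U).filter fun X => X ⊓ H = ⊥).filter fun X => ¬ f.Opp W X))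
    fun X hX => ?_, add_zero]
  · exact Finset.sum_congr rfl fun X _ => mul_comm _ _
  · simp only [Finset.mem_filter, mem_sing] at hX
    obtain ⟨⟨⟨hXs, hXT, -, hXU⟩, h4⟩, hno⟩ := hX
    have hA0 : W ⊓ f.perp X ≠ ⊥ := fun e => hno ⟨h4, e⟩
    show f.st g (f.inner U W X) * _ = 0
    rw [f.st_eq_zero (A := W ⊓ f.perp X) (hW.inf (f.stb_perp hg hinj hXs)) hA0 ?_ (hWT.mono inf_le_left) ?_,
      zero_mul]
    · exact le_inf (le_inf (inf_le_left.trans hWU) (inf_le_left.trans hWT.2)) inf_le_right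
    · exact (inf_le_left.trans inf_le_right).trans (f.perp_anti inf_le_left)

/-- Above `W`, with an opposite, the sum is that of the orthogonal part. -/
theorem stAbove_eq {g : V →ₗ[F] V} (hg : f.Iso g) (hinj : Function.Injective g) {U W X : Submodule F V}
    (hW : Stb g W) (hX : Stb g X) (hWT : f.TI W) (hWU : W ≤ U) (hopp : f.Opp W X) :
    f.stAbove g W U = f.st g (f.inner U W X) := by
  classical
  have key1 : ∀ T : Submodule F V, W ≤ T → W ⊔ T ⊓ f.perp X = T := fun T hT =>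
    le_antisymm (sup_le hT inf_le_left) fun v hv => by
      obtain ⟨w, hw, hvw⟩ := hopp.exists_proj v
      rw [show v = w + (v - w) by abel]
      exact Submodule.add_mem_sup hw ⟨Submodule.sub_mem _ hv (hT hw), hvw⟩
  have key2 : ∀ Y : Submodule F V, Y ≤ f.perp X → (W ⊔ Y) ⊓ f.perp X = Y := fun Y hY => by
    rw [sup_comm, sup_inf_assoc_of_le W hY, hopp.2, sup_bot_eq]
  have hXp : Stb g (f.perp X) := f.stb_perp hg hinj hX
  have hmem : ∀ T ∈ f.sing g W U, T ⊓ f.perp X ∈ f.sing g ⊥ (f.inner U W X) := fun T hT => by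
    rw [mem_sing] at hT ⊢
    exact ⟨hT.1.inf hXp, hT.2.1.mono inf_le_left, bot_le, le_inf (le_inf (inf_le_left.trans hT.2.2.2)
      (inf_le_left.trans (hT.2.1.2.trans (f.perp_anti hT.2.2.1)))) inf_le_right⟩
  unfold st stAbove
  refine Finset.sum_bij' (fun T _ => T ⊓ f.perp X) (fun Y _ => W ⊔ Y) hmem (fun Y hY => ?_)
    (fun T hT => key1 T ((f.mem_sing.1 hT).2.2.1))
    (fun Y hY => key2 Y (((f.mem_sing.1 hY).2.2.2).trans inf_le_right)) (fun T hT => ?_)
  · rw [mem_sing] at hY ⊢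
    refine ⟨hW.sup hY.1, ?_, le_sup_left, sup_le hWU (hY.2.2.2.trans (f.inner_le _ _ _))⟩
    rw [sup_comm]
    exact hY.2.1.sup hWT (hY.2.2.2.trans (inf_le_left.trans inf_le_right))
  · obtain ⟨hTs, hTT, hWT', hTU⟩ := f.mem_sing.1 hT
    exact mu_congr (fun T => T ⊓ f.perp X) (fun Y => W ⊔ Y) hTs hWT' hopp.2 hW
      (T' := T ⊓ f.perp X)
      (fun Z hZ h1 h2 => ⟨hZ.inf hXp, bot_le, inf_le_inf_right _ h2, key1 Z h1⟩)
      (fun Z hZ _ h2 => ⟨hW.sup hZ, le_sup_left, sup_le hWT' (h2.trans inf_le_left),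
        key2 Z (h2.trans inf_le_right)⟩)
      (fun _ _ h => inf_le_inf_right _ h) (fun _ _ h => sup_le_sup_left h _)

theorem stAbove_bot (g : V →ₗ[F] V) (U : Submodule F V) : f.stAbove g ⊥ U = f.st g U := rfl

theorem sum_stAbove {g : V →ₗ[F] V} (U : Submodule F V) :
    ∑ W ∈ f.sing g ⊥ U, f.stAbove g W U = 1 := by
  classical
  have hswap : ∑ W ∈ f.sing g ⊥ U, ∑ T ∈ f.sing g W U, mu g W T =
      ∑ T ∈ f.sing g ⊥ U, ∑ W ∈ Finset.univ.filter (fun W => Stb g W ∧ ⊥ ≤ W ∧ W ≤ T), mu g W T := by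
    refine Finset.sum_comm' fun W T => ?_
    simp only [mem_sing, Finset.mem_filter, Finset.mem_univ, true_and, bot_le]
    constructor
    · rintro ⟨⟨h1, -, -⟩, h4, h5, h6, h7⟩
      exact ⟨⟨h1, h6⟩, h4, h5, h7⟩
    · rintro ⟨⟨h1, h6⟩, h4, h5, h7⟩
      exact ⟨⟨h1, h5.mono h6, h6.trans h7⟩, h4, h5, h6, h7⟩
  unfold stAbove
  rw [hswap, Finset.sum_congr rfl fun T hT => mu_sum_left bot_le stb_bot (f.mem_sing.1 hT).1,
    Finset.sum_ite_eq', if_pos (f.mem_sing.2 ⟨stb_bot, f.ti_bot, le_rfl, bot_le⟩)]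

theorem st_no_singular {g : V →ₗ[F] V} {U : Submodule F V} (h : ∀ v ∈ U, f.Q v = 0 → v = 0) :
    f.st g U = 1 := by
  unfold st stAbove
  rw [Finset.sum_eq_single ⊥ (fun T hT hne => ?_) (fun h' => ?_), mu_self]
  · obtain ⟨v, hv, hv0⟩ := Submodule.exists_mem_ne_zero_of_ne_bot hne
    exact absurd (h v ((f.mem_sing.1 hT).2.2.2 hv) ((f.mem_sing.1 hT).2.1.1 v hv)) hv0
  · exact absurd (f.mem_sing.2 ⟨stb_bot, f.ti_bot, le_rfl, bot_le⟩) h'

/-- Transport along a map that is an isometry on `U`. -/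
theorem st_congr {g g' φ : V →ₗ[F] V} {U U' : Submodule F V} (hU : Stb g U)
    (hsurj : ∀ v ∈ U', ∃ u ∈ U, φ u = v) (hmaps : ∀ u ∈ U, φ u ∈ U') (hinj : ∀ u ∈ U, φ u = 0 → u = 0)
    (hB : ∀ u ∈ U, ∀ v ∈ U, f.B (φ u) (φ v) = f.B u v) (hQ : ∀ v ∈ U, f.Q (φ v) = f.Q v)
    (hcomm : ∀ u ∈ U, g' (φ u) = φ (g u)) : f.st g U = f.st g' U' := by
  classical
  have hinj' : ∀ u ∈ U, ∀ v ∈ U, φ u = φ v → u = v := fun u hu v hv e =>
    sub_eq_zero.1 (hinj _ (Submodule.sub_mem _ hu hv) (by rw [map_sub, e, sub_self]))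
  have hUp : ∀ Y : Submodule F V, Y ≤ U → Y.map φ ≤ U' := fun Y hY => by
    rintro _ ⟨y, hy, rfl⟩
    exact hmaps y (hY hy)
  have key1 : ∀ Y : Submodule F V, Y ≤ U → (Y.map φ).comap φ ⊓ U = Y := fun Y hY => by
    refine le_antisymm ?_ (le_inf (Submodule.le_comap_map _ _) hY)
    rintro x ⟨⟨y, hy, e⟩, hx⟩
    rwa [← hinj' y (hY hy) x hx e]
  have key2 : ∀ Y : Submodule F V, Y ≤ U' → (Y.comap φ ⊓ U).map φ = Y := fun Y hY => by
    refine le_antisymm ?_ fun y hy => ?_
    · rintro _ ⟨x, ⟨hx, -⟩, rfl⟩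
      exact hx
    · obtain ⟨u, hu, rfl⟩ := hsurj y (hY hy)
      exact ⟨u, ⟨hy, hu⟩, rfl⟩
  have hs1 : ∀ Y : Submodule F V, Stb g Y → Y ≤ U → Stb g' (Y.map φ) := fun Y hY hYU => by
    rintro _ ⟨y, hy, rfl⟩
    exact ⟨g y, hY y hy, (hcomm y (hYU hy)).symm⟩
  have hs2 : ∀ Y : Submodule F V, Stb g' Y → Stb g (Y.comap φ ⊓ U) := fun Y hY x hx => by
    refine ⟨?_, hU x hx.2⟩
    show φ (g x) ∈ Y
    rw [← hcomm x hx.2]
    exact hY _ hx.1
  have ht1 : ∀ Y : Submodule F V, f.TI Y → Y ≤ U → f.TI (Y.map φ) := fun Y hY hYU => by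
    refine ⟨?_, ?_⟩
    · rintro _ ⟨y, hy, rfl⟩
      rw [hQ y (hYU hy), hY.1 y hy]
    · rintro _ ⟨y, hy, rfl⟩ _ ⟨z, hz, rfl⟩
      rw [hB y (hYU hy) z (hYU hz), hY.2 hy z hz]
  have ht2 : ∀ Y : Submodule F V, f.TI Y → f.TI (Y.comap φ ⊓ U) := fun Y hY => by
    refine ⟨fun x hx => ?_, fun x hx z hz => ?_⟩
    · rw [← hQ x hx.2]; exact hY.1 _ hx.1
    · rw [← hB x hx.2 z hz.2]; exact hY.2 hx.1 _ hz.1
  unfold st stAbove
  refine Finset.sum_bij' (fun Y _ => Y.map φ) (fun Y _ => Y.comap φ ⊓ U) (fun Y hY => ?_) (fun Y hY => ?_)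
    (fun Y hY => key1 Y (f.mem_sing.1 hY).2.2.2) (fun Y hY => key2 Y (f.mem_sing.1 hY).2.2.2)
    (fun Y hY => ?_)
  · obtain ⟨a, b, -, d⟩ := f.mem_sing.1 hY
    exact f.mem_sing.2 ⟨hs1 Y a d, ht1 Y b d, bot_le, hUp Y d⟩
  · obtain ⟨a, b, -, -⟩ := f.mem_sing.1 hY
    exact f.mem_sing.2 ⟨hs2 Y a, ht2 Y b, bot_le, inf_le_right⟩
  · obtain ⟨a, b, -, d⟩ := f.mem_sing.1 hY
    exact mu_congr (fun Z => Z.map φ) (fun Z => Z.comap φ ⊓ U) a bot_le (Submodule.map_bot _) stb_bot
      (T' := Y.map φ)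
      (fun Z hZ _ h2 => ⟨hs1 Z hZ (h2.trans d), bot_le, Submodule.map_mono h2, key1 Z (h2.trans d)⟩)
      (fun Z hZ _ h2 => ⟨hs2 Z hZ, bot_le,
        le_trans (inf_le_inf_right U (Submodule.comap_mono h2)) (key1 Y d).le,
        key2 Z (h2.trans (hUp Y d))⟩)
      (fun _ _ h => Submodule.map_mono h) (fun _ _ h => inf_le_inf_right _ (Submodule.comap_mono h))

end Form

end Cfsg.Agent.StPolar
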