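import Cfsg.Agent.Lib.SteinbergPolar.Frame

/-!
Averages of Moebius numbers and Steinberg sums over groups of isometries: the norm of the Steinberg
sum is one.
-/

set_option autoImplicit false
set_option linter.unusedSectionVars false
set_option linter.style.haveILetI false

namespace Cfsg.Agent.StPolar

universe u

variable {F V : Type*} [Field F] [AddCommGroup V] [Module F V] [Finite V]

/-- The linear map of a group element. -/
abbrev lm {H : Type u} [Group H] (ρ : H →* (V ≃ₗ[F] V)) (h : H) : V →ₗ[F] V := (ρ h).toLinearMap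

theorem lm_mul {H : Type u} [Group H] (ρ : H →* (V ≃ₗ[F] V)) (a b : H) (v : V) :
    lm ρ (a * b) v = lm ρ a (lm ρ b v) := by
  show (ρ (a * b)) v = _
  rw [map_mul]; rfl

theorem lm_inv {H : Type u} [Group H] (ρ : H →* (V ≃ₗ[F] V)) (a : H) (v : V) :
    lm ρ a⁻¹ (lm ρ a v) = v := by
  rw [← lm_mul, inv_mul_cancel]
  show (ρ 1) v = v
  rw [map_one]; rfl

theorem lm_inv' {H : Type u} [Group H] (ρ : H →* (V ≃ₗ[F] V)) (a : H) (v : V) :
    lm ρ a (lm ρ a⁻¹ v) = v := by
  have := lm_inv ρ a⁻¹ v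
  rwa [inv_inv] at this

variable {H : Type u} [Group H] (ρ : H →* (V ≃ₗ[F] V))

/-- The action on subspaces. -/
@[reducible] def subAct : MulAction H (Submodule F V) where
  smul h W := W.map (lm ρ h)
  one_smul W := by
    show W.map (lm ρ 1) = W
    rw [show lm ρ (1 : H) = LinearMap.id from LinearMap.ext fun v => by
      show (ρ 1) v = v
      rw [map_one]; rfl, Submodule.map_id]
  mul_smul a b W := by
    show W.map (lm ρ (a * b)) = (W.map (lm ρ b)).map (lm ρ a)
    rw [← Submodule.map_comp]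
    exact congrArg (fun φ => W.map φ) (LinearMap.ext fun v => lm_mul ρ a b v)

theorem smul_eq_iff (h : H) (W : Submodule F V) :
    (letI := subAct ρ; h • W = W) ↔ Stb (lm ρ h) W := by
  show W.map (lm ρ h) = W ↔ _
  constructor
  · intro e x hx
    rw [← e]
    exact ⟨x, hx, rfl⟩
  · intro e
    haveI : Module.Finite F V := Module.Finite.of_finite
    refine Submodule.eq_of_le_of_finrank_eq (Submodule.map_le_iff_le_comap.2 e) ?_
    exact LinearEquiv.finrank_map_eq (ρ h) W

/-- The stabiliser of a subspace. -/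
def stabS (W : Submodule F V) : Subgroup H :=
  letI := subAct ρ
  MulAction.stabilizer H W

theorem mem_stabS {h : H} {W : Submodule F V} : h ∈ stabS ρ W ↔ Stb (lm ρ h) W := smul_eq_iff ρ h W

section Orbit

variable {α : Type*} [MulAction H α] [Finite H]

open scoped Classical in
theorem sum_stab_transitive (s : Finset α) (hne : s.Nonempty) (hinv : ∀ h : H, ∀ y ∈ s, h • y ∈ s)
    (htr : ∀ y ∈ s, ∀ y' ∈ s, ∃ h : H, h • y = y') :
    ∑ y ∈ s, Nat.card (MulAction.stabilizer H y) = Nat.card H := by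
  haveI := Fintype.ofFinite H
  obtain ⟨x, hx⟩ := hne
  have hs : ∀ y, y ∈ s ↔ y ∈ MulAction.orbit H x := fun y =>
    ⟨fun hy => htr x hx y hy, fun ⟨h, e⟩ => e ▸ hinv h x hx⟩
  have hcard : ∀ y ∈ s, Nat.card (MulAction.stabilizer H y) = Nat.card (MulAction.stabilizer H x) := by
    intro y hy
    obtain ⟨h, rfl⟩ := (hs y).1 hy
    rw [MulAction.stabilizer_smul_eq_stabilizer_map_conj]
    exact Subgroup.card_map_of_injective (MulEquiv.injective _)
  rw [Finset.sum_congr rfl hcard, Finset.sum_const, smul_eq_mul]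
  have e : s.card = Nat.card (MulAction.orbit H x) := by
    rw [Nat.card_congr (Equiv.subtypeEquivRight fun y => (hs y).symm), Nat.card_eq_fintype_card,
      Fintype.card_coe]
  rw [e, ← Nat.card_prod, Nat.card_congr (MulAction.orbitProdStabilizerEquivGroup H x)]

open scoped Classical in
theorem sum_stab_dvd (s : Finset α) (hinv : ∀ h : H, ∀ y ∈ s, h • y ∈ s) (z : α → ℤ)
    (hz : ∀ h : H, ∀ y ∈ s, z (h • y) = z y) :
    ∃ t : ℤ, ∑ y ∈ s, (Nat.card (MulAction.stabilizer H y) : ℤ) * z y = Nat.card H * t := by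
  induction hn : s.card using Nat.strong_induction_on generalizing s with
  | _ n ih =>
    rcases s.eq_empty_or_nonempty with rfl | ⟨x, hx⟩
    · exact ⟨0, by simp⟩
    set o := s.filter fun y => y ∈ MulAction.orbit H x with ho
    set r := s.filter fun y => y ∉ MulAction.orbit H x with hr
    have hoinv : ∀ h : H, ∀ y ∈ o, h • y ∈ o := fun h y hy => by
      rw [ho, Finset.mem_filter] at hy ⊢
      exact ⟨hinv h y hy.1, MulAction.mem_orbit_of_mem_orbit h hy.2⟩
    have hrinv : ∀ h : H, ∀ y ∈ r, h • y ∈ r := fun h y hy => by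
      rw [hr, Finset.mem_filter] at hy ⊢
      refine ⟨hinv h y hy.1, fun e => hy.2 ?_⟩
      have := MulAction.mem_orbit_of_mem_orbit h⁻¹ e
      rwa [inv_smul_smul] at this
    have hlt : r.card < n := hn ▸ Finset.card_lt_card (Finset.filter_ssubset.2
      ⟨x, hx, fun h => h (MulAction.mem_orbit_self x)⟩)
    obtain ⟨t, ht⟩ := ih _ hlt r hrinv (fun h y hy => hz h y (Finset.mem_filter.1 hy).1) rfl
    refine ⟨z x + t, ?_⟩
    rw [← Finset.sum_filter_add_sum_filter_not s (fun y => y ∈ MulAction.orbit H x), ← ho, ← hr, ht, mul_add]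
    congr 1
    have hzo : ∀ y ∈ o, (Nat.card (MulAction.stabilizer H y) : ℤ) * z y =
        (Nat.card (MulAction.stabilizer H y) : ℤ) * z x := fun y hy => by
      obtain ⟨h, rfl⟩ := (Finset.mem_filter.1 hy).2
      show _ * z (h • x) = _
      rw [hz h x hx]
    rw [Finset.sum_congr rfl hzo, ← Finset.sum_mul, ← Nat.cast_sum,
      sum_stab_transitive o ⟨x, Finset.mem_filter.2 ⟨hx, MulAction.mem_orbit_self x⟩⟩ hoinv]
    intro y hy y' hy'
    obtain ⟨g, rfl⟩ := (Finset.mem_filter.1 hy).2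
    obtain ⟨g', rfl⟩ := (Finset.mem_filter.1 hy').2
    exact ⟨g' * g⁻¹, by rw [mul_smul, inv_smul_smul]⟩

end Orbit

/-- Every automorphism of `X` is induced. -/
def FullLin (X : Submodule F V) : Prop :=
  (∀ h : H, Stb (lm ρ h) X) ∧
    ∀ g : V →ₗ[F] V, (∀ x ∈ X, g x ∈ X) → (∀ x ∈ X, g x = 0 → x = 0) → ∃ h : H, ∀ x ∈ X, lm ρ h x = g x

/-- The average of the top Moebius number over a general linear group. -/
def sAvg (k : ℕ) : ℤ := if k = 0 then 1 else if k = 1 then -1 else 0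

variable [Fintype (Submodule F V)]

theorem mu_agree {g g' : V →ₗ[F] V} {T : Submodule F V} (hT : Stb g T) (h : ∀ x ∈ T, g x = g' x) :
    mu g ⊥ T = mu g' ⊥ T := by
  have key : ∀ g g' : V →ₗ[F] V, (∀ x ∈ T, g x = g' x) → ∀ Y, Y ≤ T → Stb g Y → Stb g' Y :=
    fun g g' h Y hY hs x hx => (h x (hY hx)) ▸ hs x hx
  exact mu_congr id id hT bot_le rfl stb_bot (T' := T)
    (fun Y hY _ h2 => ⟨key g g' h Y h2 hY, bot_le, h2, rfl⟩)
    (fun Y hY _ h2 => ⟨key g' g (fun x hx => (h x hx).symm) Y h2 hY, bot_le, h2, rfl⟩)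
    (fun _ _ h => h) (fun _ _ h => h)

open scoped Classical in
theorem sum_swap {α : Type*} [Fintype H] (s : Finset α) (K : α → Subgroup H) (φ : H → α → ℤ) :
    ∑ h, ∑ y ∈ s.filter (fun y => h ∈ K y), φ h y = ∑ y ∈ s, ∑ h : K y, φ h y := by
  simp only [Finset.sum_filter]
  rw [Finset.sum_comm]
  refine Finset.sum_congr rfl fun y _ => ?_
  rw [← Finset.sum_filter]
  exact Finset.sum_subtype _ (fun h => by simp) _

theorem exists_map_line {X : Submodule F V} {a a' : V} (ha : a ∈ X) (ha' : a' ∈ X) (ha0 : a ≠ 0)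
    (ha0' : a' ≠ 0) : ∃ g : V →ₗ[F] V, (∀ x ∈ X, g x ∈ X) ∧ (∀ x ∈ X, g x = 0 → x = 0) ∧ g a = a' := by
  classical
  obtain ⟨φ, hφ⟩ : ∃ φ : X ≃ₗ[F] X, φ ⟨a, ha⟩ = ⟨a', ha'⟩ := by
    by_cases hdep : ∃ c : F, c • (⟨a, ha⟩ : X) = ⟨a', ha'⟩
    · obtain ⟨c, hc⟩ := hdep
      have hc0 : c ≠ 0 := fun e => ha0' (by
        rw [e, zero_smul] at hc
        exact (congrArg Subtype.val hc).symm)
      exact ⟨LinearEquiv.smulOfUnit (Units.mk0 c hc0), hc⟩
    · have hli : LinearIndepOn F id ({⟨a, ha⟩, ⟨a', ha'⟩} : Set X) := by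
        refine (LinearIndepOn.pair_iff id (fun e => hdep ⟨1, by rw [one_smul]; exact e⟩)).2 fun s t hst => ?_
        simp only [id_eq] at hst
        by_cases ht : t = 0
        · subst ht
          rw [zero_smul, add_zero] at hst
          rcases smul_eq_zero.1 hst with e | e
          · exact ⟨e, rfl⟩
          · exact absurd (congrArg Subtype.val e) ha0
        · exact absurd ⟨-(t⁻¹ * s), by
            have h2 : t • (⟨a', ha'⟩ : X) = -(s • ⟨a, ha⟩) := eq_neg_of_add_eq_zero_right hst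
            rw [neg_smul, mul_smul, ← smul_neg, ← h2, inv_smul_smul₀ ht]⟩ hdep
      let b := Module.Basis.extend hli
      let i0 : hli.extend (Set.subset_univ _) := ⟨⟨a, ha⟩, hli.subset_extend _ (Or.inl rfl)⟩
      let i1 : hli.extend (Set.subset_univ _) := ⟨⟨a', ha'⟩, hli.subset_extend _ (Or.inr rfl)⟩
      refine ⟨b.equiv b (Equiv.swap i0 i1), ?_⟩
      have e0 : b i0 = ⟨a, ha⟩ := Module.Basis.extend_apply_self hli i0
      have e1 : b i1 = ⟨a', ha'⟩ := Module.Basis.extend_apply_self hli i1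
      refine (congrArg _ e0.symm).trans ((Module.Basis.equiv_apply _ _ _ _).trans ?_)
      rw [Equiv.swap_apply_left]
      exact e1
  obtain ⟨g, hg⟩ := LinearMap.exists_extend (X.subtype.comp φ.toLinearMap)
  have key : ∀ x (hx : x ∈ X), g x = (φ ⟨x, hx⟩ : V) := fun x hx => LinearMap.congr_fun hg ⟨x, hx⟩
  refine ⟨g, fun x hx => key x hx ▸ (φ _).2, fun x hx h0 => ?_, by rw [key a ha, hφ]⟩
  have h1 : φ ⟨x, hx⟩ = 0 := Subtype.ext ((key x hx).symm.trans h0)
  exact congrArg Subtype.val (φ.map_eq_zero_iff.1 h1)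

/-- Average of the top Moebius number. -/
theorem gl_avg : ∀ (n : ℕ) {H : Type u} [Group H] [Fintype H] (ρ : H →* (V ≃ₗ[F] V)) (X : Submodule F V),
    Module.finrank F X = n → FullLin ρ X → ∑ h, mu (lm ρ h) ⊥ X = Fintype.card H * sAvg n := by
  intro n
  induction n using Nat.strong_induction_on with
  | _ n ih =>
    intro H _ _ ρ X hn hfull
    classical
    haveI : Module.Finite F V := Module.Finite.of_finite
    by_cases hX : X = ⊥
    · subst hX
      rw [finrank_bot] at hn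
      subst hn
      simp [mu_self, sAvg]
    have hn0 : 1 ≤ n := hn ▸ Submodule.one_le_finrank_iff.2 hX
    letI := subAct ρ
    set s := Finset.univ.filter fun Y : Submodule F V => Y < X with hs
    have h1 : ∀ h : H, mu (lm ρ h) ⊥ X = -∑ Y ∈ s.filter (fun Y => h ∈ stabS ρ Y), mu (lm ρ h) ⊥ Y := by
      intro h
      rw [mu_of_ne hX]
      congr 1
      refine Finset.sum_congr ?_ fun _ _ => rfl
      ext Y
      simp [hs, mem_stabS, and_comm]
    rw [Finset.sum_congr rfl fun h _ => h1 h, Finset.sum_neg_distrib, sum_swap]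
    have h2 : ∀ Y ∈ s, ∑ h : stabS ρ Y, mu (lm ρ h) ⊥ Y =
        (Nat.card (stabS ρ Y) : ℤ) * sAvg (Module.finrank F Y) := by
      intro Y hY
      have hlt : Y < X := (Finset.mem_filter.1 hY).2
      rw [Nat.card_eq_fintype_card]
      refine ih _ (hn ▸ Submodule.finrank_lt_finrank_of_lt hlt) (ρ.comp (stabS ρ Y).subtype) Y rfl
        ⟨fun h => (mem_stabS ρ).1 h.2, fun g hg hg0 => ?_⟩
      obtain ⟨C, hC⟩ := Y.exists_isCompl
      let g' : V →ₗ[F] V := LinearMap.ofIsCompl hC (g.comp Y.subtype) C.subtype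
      have hY' : ∀ (y : Y) (c : C), g' (y + c : V) = g y + c := fun y c => by
        rw [map_add, LinearMap.ofIsCompl_left_apply, LinearMap.ofIsCompl_right_apply]; rfl
      have hsplit : ∀ x : V, ∃ (y : Y) (c : C), x = (y : V) + c := fun x => by
        have : x ∈ Y ⊔ C := hC.sup_eq_top ▸ Submodule.mem_top
        obtain ⟨y, hy, c, hc, rfl⟩ := Submodule.mem_sup.1 this
        exact ⟨⟨y, hy⟩, ⟨c, hc⟩, rfl⟩
      obtain ⟨h, hh⟩ := hfull.2 g' (fun x hx => by
        obtain ⟨y, c, rfl⟩ := hsplit x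
        rw [hY']
        have hc : (c : V) ∈ X := by
          have := Submodule.sub_mem _ hx (hlt.le y.2)
          rwa [add_sub_cancel_left] at this
        exact Submodule.add_mem _ (hlt.le (hg _ y.2)) hc) (fun x hx h0 => by
        obtain ⟨y, c, rfl⟩ := hsplit x
        rw [hY'] at h0
        have hc : (c : V) ∈ Y ⊓ C := ⟨by
          rw [show (c : V) = -g y from eq_neg_of_add_eq_zero_right h0]
          exact Submodule.neg_mem _ (hg _ y.2), c.2⟩
        rw [hC.inf_eq_bot, Submodule.mem_bot] at hc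
        rw [hc, add_zero] at h0
        rw [hc, add_zero, hg0 _ y.2 h0])
      have hY2 : ∀ y ∈ Y, lm ρ h y = g y := fun y hy => by
        rw [hh y (hlt.le hy)]
        have := hY' ⟨y, hy⟩ 0
        simpa using this
      exact ⟨⟨h, (mem_stabS ρ).2 fun y hy => hY2 y hy ▸ hg y hy⟩, hY2⟩
    rw [Finset.sum_congr rfl h2]
    set pts := s.filter fun Y : Submodule F V => Module.finrank F ↥Y = 1 with hpts
    have h3 : ∑ Y ∈ s, (Nat.card (stabS ρ Y) : ℤ) * sAvg (Module.finrank F Y) =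
        (Nat.card H : ℤ) - ∑ Y ∈ pts, (Nat.card (stabS ρ Y) : ℤ) := by
      rw [hpts, Finset.sum_filter (s := s), ← Finset.add_sum_erase s _ (Finset.mem_filter.2
          ⟨Finset.mem_univ _, bot_lt_iff_ne_bot.2 hX⟩ : (⊥ : Submodule F V) ∈ s),
        ← Finset.add_sum_erase s (fun Y => if Module.finrank F Y = 1 then (Nat.card (stabS ρ Y) : ℤ) else 0)
          (Finset.mem_filter.2 ⟨Finset.mem_univ _, bot_lt_iff_ne_bot.2 hX⟩ : (⊥ : Submodule F V) ∈ s)]
      rw [finrank_bot, if_neg (by omega : ¬ (0 : ℕ) = 1), zero_add, sub_eq_add_neg, ← Finset.sum_neg_distrib]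
      congr 1
      · have : stabS ρ (⊥ : Submodule F V) = ⊤ := eq_top_iff.2 fun h _ => (mem_stabS ρ).2 stb_bot
        rw [this, Subgroup.card_top, sAvg, if_pos rfl, mul_one]
      · refine Finset.sum_congr rfl fun Y hY => ?_
        have hY0 : Module.finrank F Y ≠ 0 := fun e =>
          (Finset.mem_erase.1 hY).1 (Submodule.finrank_eq_zero.1 e)
        rw [sAvg, if_neg hY0]
        split_ifs <;> simp
    rw [h3]
    by_cases hn1 : n = 1
    · have : pts = ∅ := Finset.eq_empty_of_forall_notMem fun Y hY => by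
        rw [hpts, Finset.mem_filter, hs, Finset.mem_filter] at hY
        have := Submodule.finrank_lt_finrank_of_lt hY.1.2
        omega
      rw [this, Finset.sum_empty, sub_zero, hn1, ← Nat.card_eq_fintype_card]
      simp [sAvg]
    · have hne : pts.Nonempty := by
        obtain ⟨a, ha, ha0⟩ := Submodule.exists_mem_ne_zero_of_ne_bot hX
        refine ⟨Submodule.span F {a}, Finset.mem_filter.2 ⟨Finset.mem_filter.2 ⟨Finset.mem_univ _, ?_⟩,
          finrank_span_singleton ha0⟩⟩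
        refine lt_of_le_of_ne (by rwa [Submodule.span_singleton_le_iff_mem]) fun e => ?_
        rw [← e, finrank_span_singleton ha0] at hn
        omega
      have hinv : ∀ h : H, ∀ Y ∈ pts, h • Y ∈ pts := fun h Y hY => by
        rw [hpts, Finset.mem_filter, hs, Finset.mem_filter] at hY ⊢
        have hfr : Module.finrank F (h • Y : Submodule F V) = Module.finrank F Y :=
          LinearEquiv.finrank_map_eq (ρ h) Y
        refine ⟨⟨Finset.mem_univ _, lt_of_le_of_ne ?_ fun e => ?_⟩, hfr.trans hY.2⟩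
        · rintro _ ⟨y, hy, rfl⟩
          exact hfull.1 h y (hY.1.2.le hy)
        · rw [e, hn, hY.2] at hfr
          exact hn1 hfr
      have htr : ∀ Y ∈ pts, ∀ Y' ∈ pts, ∃ h : H, h • Y = Y' := by
        intro Y hY Y' hY'
        rw [hpts, Finset.mem_filter, hs, Finset.mem_filter] at hY hY'
        obtain ⟨a, ha, ha0, hspan⟩ := finrank_eq_one_iff'.1 hY.2 |> fun ⟨v, hv0, hv⟩ =>
          (⟨v.1, v.2, fun e => hv0 (Subtype.ext e), hv⟩ : ∃ a, ∃ (ha : a ∈ Y), a ≠ 0 ∧ ∀ w : Y, ∃ c : F, c • (⟨a, ha⟩ : Y) = w)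
        obtain ⟨a', ha', ha0', -⟩ := finrank_eq_one_iff'.1 hY'.2 |> fun ⟨v, hv0, hv⟩ =>
          (⟨v.1, v.2, fun e => hv0 (Subtype.ext e), hv⟩ : ∃ a, ∃ (ha : a ∈ Y'), a ≠ 0 ∧ ∀ w : Y', ∃ c : F, c • (⟨a, ha⟩ : Y') = w)
        obtain ⟨g, hg, hg0, hga⟩ := exists_map_line (hY.1.2.le ha) (hY'.1.2.le ha') ha0 ha0'
        obtain ⟨h, hh⟩ := hfull.2 g hg hg0
        refine ⟨h, Submodule.eq_of_le_of_finrank_eq ?_ ?_⟩
        · rintro _ ⟨y, hy, rfl⟩
          obtain ⟨c, hc⟩ := hspan ⟨y, hy⟩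
          rw [show y = c • a from (congrArg Subtype.val hc).symm, map_smul, hh a (hY.1.2.le ha), hga]
          exact Submodule.smul_mem _ _ ha'
        · exact (LinearEquiv.finrank_map_eq (ρ h) Y).trans (hY.2.trans hY'.2.symm)
      have h4 : ∑ Y ∈ pts, Nat.card (stabS ρ Y) = Nat.card H := sum_stab_transitive pts hne hinv htr
      rw [← Nat.cast_sum, h4, sub_self, neg_zero, sAvg, if_neg (by omega), if_neg hn1, mul_zero]

namespace Form

variable (f : Form F V)

/-- Every isometry of `U` is induced. -/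
def Full (U : Submodule F V) : Prop :=
  (∀ h : H, f.Iso (lm ρ h)) ∧ (∀ h : H, Stb (lm ρ h) U) ∧
    ∀ g : V →ₗ[F] V, f.IsoOn U g → ∃ h : H, ∀ u ∈ U, lm ρ h u = g u

variable {ρ}
variable {U W X : Submodule F V}

/-- A frame of an opposite pair, from a basis of the second member. -/
theorem exists_pair_frame (hW : f.TI W) (hX : f.TI X) (hWU : W ≤ U) (hXU : X ≤ U) (h : f.Opp W X) {k : ℕ}
    (x : Module.Basis (Fin k) F X) :
    ∃ w : Fin k → V, f.Frame U w (fun i => (x i : V)) ∧ (∀ i, w i ∈ W) ∧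
      ∀ v, f.Perp₂ w (fun i => (x i : V)) v ↔ v ∈ f.perp W ∧ v ∈ f.perp X := by
  classical
  haveI : Module.Finite F V := Module.Finite.of_finite
  choose w hw hdual using fun i : Fin k => (f.exists_pairing h).2 x (fun j => if i = j then 1 else 0)
  refine ⟨w, ⟨fun i => hWU (hw i), fun i => hXU (x i).2, fun i => hW.1 _ (hw i), fun i => hX.1 _ (x i).2,
    fun i j => hW.2 (hw i) _ (hw j), fun i j => hX.2 (x i).2 _ (x j).2, hdual⟩, hw, fun v => ?_⟩
  refine ⟨fun hv => ⟨fun y hy => ?_, fun y hy => ?_⟩, fun hv => ⟨fun i => hv.1 _ (hw i), fun i => hv.2 _ (x i).2⟩⟩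
  · let w' : Fin k → W := fun i => ⟨w i, hw i⟩
    have hli : LinearIndependent F w' := Fintype.linearIndependent_iff.2 fun c hc j => by
      have := congrArg (fun y : W => f.B (y : V) (x j : V)) hc
      simpa [f.sum_left, f.smul_left, w', hdual, f.B_zero_left] using this
    have hspan := hli.span_eq_top_of_card_eq_finrank' (by
      rw [Fintype.card_fin, (f.exists_pairing h).1, Module.finrank_eq_card_basis x, Fintype.card_fin])
    have hmem : (⟨y, hy⟩ : W) ∈ Submodule.span F (Set.range w') := hspan ▸ Submodule.mem_top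
    obtain ⟨c, hc⟩ := (Submodule.mem_span_range_iff_exists_fun F).1 hmem
    rw [show y = ∑ i, c i • w i from by simpa [w'] using (congrArg Subtype.val hc).symm, f.sum_right]
    exact Finset.sum_eq_zero fun i _ => by rw [f.smul_right, hv.1 i, mul_zero]
  · rw [basis_sum x hy, f.sum_right]
    exact Finset.sum_eq_zero fun i _ => by rw [f.smul_right, hv.2 i, mul_zero]

/-- The pointwise stabiliser of the orthogonal part inside the stabiliser of a pair. -/
def kerInner (ρ : H →* (V ≃ₗ[F] V)) (U W X : Submodule F V) : Subgroup H where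
  carrier := {h | h ∈ stabS ρ W ⊓ stabS ρ X ∧ ∀ u ∈ f.inner U W X, lm ρ h u = u}
  one_mem' := ⟨one_mem _, fun u _ => by show (ρ 1) u = u; rw [map_one]; rfl⟩
  mul_mem' ha hb := ⟨mul_mem ha.1 hb.1, fun u hu => by rw [lm_mul, hb.2 u hu, ha.2 u hu]⟩
  inv_mem' {a} ha := ⟨inv_mem ha.1, fun u hu => by
    conv_lhs => rw [← ha.2 u hu]
    exact lm_inv ρ a u⟩

theorem fullLin_kerInner (hf : f.Full ρ U) (hW : f.TI W) (hX : f.TI X) (hWU : W ≤ U) (hXU : X ≤ U)
    (h : f.Opp W X) : FullLin (ρ.comp (f.kerInner ρ U W X).subtype) X := by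
  classical
  haveI : Module.Finite F V := Module.Finite.of_finite
  refine ⟨fun k => (mem_stabS ρ).1 k.2.1.2, fun g hg hg0 => ?_⟩
  let x := Module.finBasis F X
  let γ : X →ₗ[F] X := g.restrict hg
  have hγ : Function.Injective γ := by
    rw [← LinearMap.ker_eq_bot, LinearMap.ker_eq_bot']
    exact fun a ha => Subtype.ext (hg0 a a.2 (congrArg Subtype.val ha))
  let x' : Module.Basis _ F X := x.map (LinearEquiv.ofBijective γ ⟨hγ, LinearMap.injective_iff_surjective.1 hγ⟩)
  obtain ⟨w, hw, hwW, hperp⟩ := f.exists_pair_frame hW hX hWU hXU h x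
  obtain ⟨w', hw', hwW', -⟩ := f.exists_pair_frame hW hX hWU hXU h x'
  obtain ⟨φ, hφ, hφw, hφx, hφp⟩ := hw.exists_move f hw' fun u _ hu i => ((hperp u).1 hu).1 _ (hwW' i)
  obtain ⟨k, hk⟩ := hf.2.2 φ hφ
  have hkx : ∀ y ∈ X, lm ρ k y = g y := fun y hy => by
    rw [hk y (hXU hy), basis_sum x hy, map_sum, map_sum]
    refine Finset.sum_congr rfl fun i _ => ?_
    rw [map_smul, map_smul, hφx]
    rfl
  have hkW : Stb (lm ρ k) W := fun y hy => by
    rw [hk y (hWU hy), f.eq_comb w (fun i => (x i : V)) y, comb, map_add, map_add, map_sum, map_sum]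
    have hp : f.proj w (fun i => (x i : V)) y = 0 := by
      rw [proj_apply]
      have hB0 : ∀ i, f.coB w y i = 0 := fun i => by simp [coB, hW.2 hy _ (hwW i)]
      simp only [hB0, zero_smul, Finset.sum_const_zero, sub_zero]
      have hz : y - ∑ i, f.coA (fun i => (x i : V)) y i • w i ∈ W ⊓ f.perp X := by
        refine ⟨Submodule.sub_mem _ hy (Submodule.sum_mem _ fun i _ => Submodule.smul_mem _ _ (hwW i)), fun z hz => ?_⟩
        rw [basis_sum x hz, f.sum_right]
        refine Finset.sum_eq_zero fun j _ => ?_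
        simp [f.smul_right, f.sub_left, f.sum_left, f.smul_left, hw.dual, coA]
      rwa [h.2, Submodule.mem_bot] at hz
    have hB0 : ∀ i, f.coB w y i = 0 := fun i => by simp [coB, hW.2 hy _ (hwW i)]
    simp only [hp, map_zero, add_zero, map_smul, hφw, hB0, zero_smul, Finset.sum_const_zero]
    exact Submodule.sum_mem _ fun i _ => Submodule.smul_mem _ _ (hwW' i)
  refine ⟨⟨k, ⟨(mem_stabS ρ).2 hkW, (mem_stabS ρ).2 fun y hy => hkx y hy ▸ hg y hy⟩, fun u hu => ?_⟩, hkx⟩
  rw [hk u hu.1.1, hφp u hu.1.1 ((hperp u).2 ⟨hu.1.2, hu.2⟩)]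
  rw [Finset.sum_eq_zero fun i _ => by rw [hu.2 _ (x' i).2, zero_smul], sub_zero]

theorem fullLin_stab (hU : f.Red U) (hf : f.Full ρ U) (hX : f.TI X) (hXU : X ≤ U) :
    FullLin (ρ.comp (stabS ρ X).subtype) X := by
  obtain ⟨W, hW, hWU, hopp⟩ := f.exists_opp hU hX hXU
  obtain ⟨-, h2⟩ := f.fullLin_kerInner hf hW hX hWU hXU hopp
  refine ⟨fun k => (mem_stabS ρ).1 k.2, fun g hg hg0 => ?_⟩
  obtain ⟨k, hk⟩ := h2 g hg hg0
  exact ⟨⟨k.1, k.2.1.2⟩, hk⟩

theorem full_inner (hf : f.Full ρ U) (hW : f.TI W) (hX : f.TI X) (hWU : W ≤ U) (hXU : X ≤ U)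
    (h : f.Opp W X) : f.Full (ρ.comp (stabS ρ W ⊓ stabS ρ X).subtype) (f.inner U W X) := by
  classical
  haveI : Module.Finite F V := Module.Finite.of_finite
  refine ⟨fun k => hf.1 k, fun k => f.stb_inner (hf.1 k) (ρ k).injective (hf.2.1 k) ((mem_stabS ρ).1 k.2.1)
    ((mem_stabS ρ).1 k.2.2), fun g hg => ?_⟩
  obtain ⟨w, hw, hwW, hperp⟩ := f.exists_pair_frame hW hX hWU hXU h (Module.finBasis F X)
  obtain ⟨w2, hw2, hwW2, hperp2⟩ := f.exists_pair_frame hX hW hXU hWU h.symm (Module.finBasis F W)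
  have hin : ∀ u ∈ U, f.Perp₂ w (fun i => (Module.finBasis F X i : V)) u → u ∈ f.inner U W X := fun u hu hp =>
    ⟨⟨hu, ((hperp u).1 hp).1⟩, ((hperp u).1 hp).2⟩
  obtain ⟨φ, hφ, hφw, hφx, hφp⟩ := hw.exists_ext f (g := g)
    (fun u hu hp => ⟨(hg.1 u (hin u hu hp)).1.1,
      (hperp _).2 ⟨(hg.1 u (hin u hu hp)).1.2, (hg.1 u (hin u hu hp)).2⟩⟩)
    (fun u hu v hv hp hp' => hg.2.1 u (hin u hu hp) v (hin v hv hp'))
    (fun u hu hp => hg.2.2 u (hin u hu hp))
  obtain ⟨k, hk⟩ := hf.2.2 φ hφ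
  have hkX : Stb (lm ρ k) X := fun y hy => by
    rw [hk y (hXU hy), basis_sum (Module.finBasis F X) hy, map_sum]
    refine Submodule.sum_mem _ fun i _ => ?_
    rw [map_smul, hφx]
    exact Submodule.smul_mem _ _ (Module.finBasis F X i).2
  have hkW : Stb (lm ρ k) W := by
    let w' : _ → W := fun i => (⟨w i, hwW i⟩ : W)
    have hli : LinearIndependent F w' := Fintype.linearIndependent_iff.2 fun c hc j => by
      have := congrArg (fun y : W => f.B (y : V) (Module.finBasis F X j : V)) hc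
      simpa [f.sum_left, f.smul_left, w', hw.dual, f.B_zero_left] using this
    have hspan := hli.span_eq_top_of_card_eq_finrank' (by
      rw [Fintype.card_fin, (f.exists_pairing h).1])
    intro y hy
    have hmem : (⟨y, hy⟩ : W) ∈ Submodule.span F (Set.range w') := hspan ▸ Submodule.mem_top
    obtain ⟨c, hc⟩ := (Submodule.mem_span_range_iff_exists_fun F).1 hmem
    rw [hk y (hWU hy), show y = ∑ i, c i • w i from by simpa [w'] using (congrArg Subtype.val hc).symm, map_sum]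
    refine Submodule.sum_mem _ fun i _ => ?_
    rw [map_smul, hφw]
    exact Submodule.smul_mem _ _ (hwW i)
  exact ⟨⟨k, (mem_stabS ρ).2 hkW, (mem_stabS ρ).2 hkX⟩, fun u hu =>
    (hk u hu.1.1).trans (hφp u hu.1.1 ((hperp u).2 ⟨hu.1.2, hu.2⟩))⟩

theorem red_inner (hU : f.Red U) (hW : f.TI W) (hX : f.TI X) (hWU : W ≤ U) (hXU : X ≤ U)
    (h : f.Opp W X) : f.Red (f.inner U W X) := by
  classical
  haveI : Module.Finite F V := Module.Finite.of_finite
  obtain ⟨w, hw, hwW, hperp⟩ := f.exists_pair_frame hW hX hWU hXU h (Module.finBasis F X)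
  intro v hv hQ hperpv
  refine hU v hv.1.1 hQ fun u hu => ?_
  rw [f.eq_comb w (fun i => (Module.finBasis F X i : V)) u, comb]
  have hp := (hperp _).1 (hw.proj_perp f u)
  have h1 : f.B v (f.proj w (fun i => (Module.finBasis F X i : V)) u) = 0 :=
    hperpv _ ⟨⟨hw.proj_mem f hu, hp.1⟩, hp.2⟩
  have hvp := (hperp v).2 ⟨hv.1.2, hv.2⟩
  simp [f.add_right, f.sum_right, f.smul_right, hvp.1, hvp.2, h1]

theorem inner_lt (hX0 : X ≠ ⊥) (hXU : X ≤ U) (h : f.Opp W X) : f.inner U W X < U := by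
  refine lt_of_le_of_ne (f.inner_le U W X) fun e => hX0 ?_
  rw [eq_bot_iff, ← h.1]
  exact le_inf le_rfl (fun x hx => ((e.symm ▸ hXU hx : x ∈ f.inner U W X)).1.2)

/-- Two singular points are in one orbit. -/
theorem exists_move_point (hU : f.Red U) (hf : f.Full ρ U) {a a' : V} (ha : a ∈ U) (ha' : a' ∈ U)
    (hQ : f.Q a = 0) (hQ' : f.Q a' = 0) (ha0 : a ≠ 0) (ha0' : a' ≠ 0) :
    ∃ h : H, lm ρ h a ∈ Submodule.span F {a'} := by
  classical
  -- swap two opposite points
  have hswap : ∀ a b : V, a ∈ U → b ∈ U → f.Q a = 0 → f.Q b = 0 → f.B a b ≠ 0 →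
      ∃ h : H, ∃ c : F, lm ρ h a = c • b := by
    intro a b ha hb hQa hQb hab
    set c := f.sig (f.B a b)⁻¹ with hc
    have hc1 : f.B a (c • b) = 1 := by
      rw [f.smul_right, hc, f.sig_sig, inv_mul_cancel₀ hab]
    have hne : f.B (c • b) a ≠ 0 := fun e => one_ne_zero (hc1.symm.trans (f.B_comm_zero e))
    have hfr : f.Frame U (fun _ : Fin 1 => a) (fun _ : Fin 1 => c • b) :=
      ⟨fun _ => ha, fun _ => Submodule.smul_mem _ _ hb, fun _ => hQa, fun _ => by rw [f.Q_smul, hQb, mul_zero],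
        fun _ _ => f.self_zero _ hQa,
        fun _ _ => f.self_zero _ (by rw [f.Q_smul, hQb, mul_zero]),
        fun i j => by rw [Subsingleton.elim i j, if_pos rfl]; exact hc1⟩
    set t := f.sig (f.B (c • b) a)⁻¹ with ht
    have ht1 : f.B (c • b) (t • a) = 1 := by
      rw [f.smul_right, ht, f.sig_sig, inv_mul_cancel₀ hne]
    have hfr' : f.Frame U (fun _ : Fin 1 => c • b) (fun _ : Fin 1 => t • a) :=
      ⟨fun _ => Submodule.smul_mem _ _ hb, fun _ => Submodule.smul_mem _ _ ha,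
        fun _ => by rw [f.Q_smul, hQb, mul_zero], fun _ => by rw [f.Q_smul, hQa, mul_zero],
        fun _ _ => f.self_zero _ (by rw [f.Q_smul, hQb, mul_zero]),
        fun _ _ => f.self_zero _ (by rw [f.Q_smul, hQa, mul_zero]),
        fun i j => by rw [Subsingleton.elim i j, if_pos rfl]; exact ht1⟩
    obtain ⟨φ, hφ, hφa, -, -⟩ := hfr.exists_move f hfr' fun u _ hu i => hu.2 i
    obtain ⟨h, hh⟩ := hf.2.2 φ hφ
    exact ⟨h, c, by rw [hh a ha]; exact hφa 0⟩
  obtain ⟨e, he⟩ := f.exists_frame hU (fun _ : Fin 1 => a) (linearIndependent_unique_iff.2 ha0) (fun _ => ha)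
    (by rw [Set.range_const]; exact f.ti_span hQ)
  obtain ⟨e', he'⟩ := f.exists_frame hU (fun _ : Fin 1 => a') (linearIndependent_unique_iff.2 ha0') (fun _ => ha')
    (by rw [Set.range_const]; exact f.ti_span hQ')
  set b := e 0
  set b' := e' 0
  have hab : f.B a b = 1 := by have := he.dual 0 0; rwa [if_pos rfl] at this
  have hab' : f.B a' b' = 1 := by have := he'.dual 0 0; rwa [if_pos rfl] at this
  have comp : ∀ x y z : V, (∃ h : H, ∃ c : F, lm ρ h x = c • y) → (∃ h : H, ∃ c : F, lm ρ h y = c • z) →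
      ∃ h : H, ∃ c : F, lm ρ h x = c • z := by
    rintro x y z ⟨h, c, e1⟩ ⟨h', c', e2⟩
    exact ⟨h' * h, c * c', by rw [lm_mul, e1, map_smul, e2, smul_smul]⟩
  suffices hh : ∃ h : H, ∃ c : F, lm ρ h a = c • a' by
    obtain ⟨h, c, e1⟩ := hh
    exact ⟨h, e1 ▸ Submodule.smul_mem _ _ (Submodule.mem_span_singleton_self a')⟩
  have hbU : b ∈ U := he.mem' 0
  have hb'U : b' ∈ U := he'.mem' 0
  have hQb : f.Q b = 0 := he.sing' 0
  have hQb' : f.Q b' = 0 := he'.sing' 0
  by_cases h1 : f.B a a' = 0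
  · by_cases h2 : f.B b a' = 0
    · by_cases h3 : f.B a b' = 0
      · have hs : f.Q (a + a') = 0 := by rw [f.Q_add_perp h1, hQ, hQ', add_zero]
        have hsU := Submodule.add_mem _ ha ha'
        have e1 := hswap a b ha hbU hQ hQb (by rw [hab]; exact one_ne_zero)
        have e2 := hswap b (a + a') hbU hsU hQb hs (by
          rw [f.add_right, h2, add_zero]
          intro e
          exact one_ne_zero (hab.symm.trans (f.B_comm_zero e)))
        have e3 := hswap (a + a') b' hsU hb'U hs hQb' (by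
          rw [f.add_left, h3, hab', zero_add]; exact one_ne_zero)
        have e4 := hswap b' a' hb'U ha' hQb' hQ' (by
          intro e
          exact one_ne_zero (hab'.symm.trans (f.B_comm_zero e)))
        exact comp _ _ _ e1 (comp _ _ _ e2 (comp _ _ _ e3 e4))
      · exact comp _ _ _ (hswap a b' ha hb'U hQ hQb' h3) (hswap b' a' hb'U ha' hQb' hQ' fun e =>
          one_ne_zero (hab'.symm.trans (f.B_comm_zero e)))
    · exact comp _ _ _ (hswap a b ha hbU hQ hQb (by rw [hab]; exact one_ne_zero))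
        (hswap b a' hbU ha' hQb hQ' h2)
  · exact hswap a a' ha ha' hQ hQ' h1

theorem line_eq (X : Submodule F V) (hX : Module.finrank F X = 1) :
    ∃ a, a ∈ X ∧ a ≠ 0 ∧ X = Submodule.span F {a} := by
  haveI : Module.Finite F V := Module.Finite.of_finite
  have hne : X ≠ ⊥ := fun e => by rw [e, finrank_bot] at hX; exact zero_ne_one hX
  obtain ⟨a, ha, ha0⟩ := Submodule.exists_mem_ne_zero_of_ne_bot hne
  refine ⟨a, ha, ha0, (Submodule.eq_of_le_of_finrank_eq ?_ ?_).symm⟩
  · rwa [Submodule.span_singleton_le_iff_mem]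
  · rw [finrank_span_singleton ha0, hX]

open scoped Classical in
/-- The totally singular subspaces of `U`. -/
noncomputable def tis (U : Submodule F V) : Finset (Submodule F V) :=
  Finset.univ.filter fun T => f.TI T ∧ T ≤ U

open scoped Classical in
theorem sing_bot_eq (U : Submodule F V) (h : H) :
    f.sing (lm ρ h) ⊥ U = (f.tis U).filter fun T => h ∈ stabS ρ T := by
  ext T
  simp [sing, tis, mem_stabS, and_comm, and_assoc, and_left_comm]

theorem smul_tis (hf : f.Full ρ U) (h : H) {T : Submodule F V} (hT : T ∈ f.tis U) :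
    T.map (lm ρ h) ∈ f.tis U := by
  classical
  simp only [tis, Finset.mem_filter, Finset.mem_univ, true_and] at hT ⊢
  refine ⟨⟨?_, ?_⟩, ?_⟩
  · rintro _ ⟨y, hy, rfl⟩
    rw [(hf.1 h).2, hT.1.1 y hy]
  · rintro _ ⟨y, hy, rfl⟩ _ ⟨z, hz, rfl⟩
    rw [(hf.1 h).1]
    exact hT.1.2 hy z hz
  · rintro _ ⟨y, hy, rfl⟩
    exact hf.2.1 h y (hT.2 hy)

/-- The sum of the Steinberg sums vanishes in positive rank. -/
theorem st_avg [Fintype H] (hU : f.Red U) (hf : f.Full ρ U) (hs : ∃ v ∈ U, f.Q v = 0 ∧ v ≠ 0) :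
    ∑ h, f.st (lm ρ h) U = 0 := by
  classical
  haveI : Module.Finite F V := Module.Finite.of_finite
  letI := subAct ρ
  have h1 : ∀ h : H, f.st (lm ρ h) U = ∑ T ∈ (f.tis U).filter (fun T => h ∈ stabS ρ T), mu (lm ρ h) ⊥ T := by
    intro h
    rw [← f.sing_bot_eq]
    rfl
  rw [Finset.sum_congr rfl fun h _ => h1 h, sum_swap]
  have h2 : ∀ T ∈ f.tis U, ∑ h : stabS ρ T, mu (lm ρ h) ⊥ T =
      (Nat.card (stabS ρ T) : ℤ) * sAvg (Module.finrank F T) := fun T hT => by
    simp only [tis, Finset.mem_filter, Finset.mem_univ, true_and] at hT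
    rw [Nat.card_eq_fintype_card]
    exact gl_avg _ (ρ.comp (stabS ρ T).subtype) T rfl (f.fullLin_stab hU hf hT.1 hT.2)
  rw [Finset.sum_congr rfl h2]
  have hbot : (⊥ : Submodule F V) ∈ f.tis U := by
    simp [tis, f.ti_bot]
  set pts := (f.tis U).filter fun T : Submodule F V => Module.finrank F ↥T = 1 with hpts
  have hsplit : ∑ T ∈ f.tis U, (Nat.card (stabS ρ T) : ℤ) * sAvg (Module.finrank F T) =
      (Nat.card H : ℤ) - ∑ T ∈ pts, (Nat.card (stabS ρ T) : ℤ) := by
    rw [hpts, Finset.sum_filter, ← Finset.add_sum_erase (f.tis U) _ hbot,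
      ← Finset.add_sum_erase (f.tis U) (fun T => if Module.finrank F T = 1 then (Nat.card (stabS ρ T) : ℤ) else 0) hbot]
    rw [finrank_bot, if_neg (by omega : ¬ (0 : ℕ) = 1), zero_add, sub_eq_add_neg, ← Finset.sum_neg_distrib]
    congr 1
    · have : stabS ρ (⊥ : Submodule F V) = ⊤ := eq_top_iff.2 fun h _ => (mem_stabS ρ).2 stb_bot
      rw [this, Subgroup.card_top, sAvg, if_pos rfl, mul_one]
    · refine Finset.sum_congr rfl fun Y hY => ?_
      have hY0 : Module.finrank F Y ≠ 0 := fun e =>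
        (Finset.mem_erase.1 hY).1 (Submodule.finrank_eq_zero.1 e)
      rw [sAvg, if_neg hY0]
      split_ifs <;> simp
  rw [hsplit]
  obtain ⟨a, ha, hQa, ha0⟩ := hs
  have hne : pts.Nonempty := ⟨Submodule.span F {a}, by
    simp only [hpts, tis, Finset.mem_filter, Finset.mem_univ, true_and]
    exact ⟨⟨f.ti_span hQa, by rwa [Submodule.span_singleton_le_iff_mem]⟩, finrank_span_singleton ha0⟩⟩
  have hinv : ∀ h : H, ∀ T ∈ pts, h • T ∈ pts := fun h T hT => by
    rw [hpts, Finset.mem_filter] at hT ⊢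
    exact ⟨f.smul_tis hf h hT.1, (LinearEquiv.finrank_map_eq (ρ h) T).trans hT.2⟩
  have htr : ∀ T ∈ pts, ∀ T' ∈ pts, ∃ h : H, h • T = T' := by
    intro T hT T' hT'
    simp only [hpts, tis, Finset.mem_filter, Finset.mem_univ, true_and] at hT hT'
    obtain ⟨b, hb, hb0, rfl⟩ := line_eq T hT.2
    obtain ⟨b', hb', hb0', rfl⟩ := line_eq T' hT'.2
    obtain ⟨h, hh⟩ := f.exists_move_point hU hf (hT.1.2 hb) (hT'.1.2 hb') (hT.1.1.1 b hb) (hT'.1.1.1 b' hb')
      hb0 hb0'
    refine ⟨h, Submodule.eq_of_le_of_finrank_eq ?_ ((LinearEquiv.finrank_map_eq (ρ h) _).trans (hT.2.trans hT'.2.symm))⟩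
    show (Submodule.span F {b}).map (lm ρ h) ≤ _
    rw [Submodule.map_span, Set.image_singleton, Submodule.span_singleton_le_iff_mem]
    exact hh
  have h4 : ∑ T ∈ pts, Nat.card (stabS ρ T) = Nat.card H := sum_stab_transitive pts hne hinv htr
  rw [← Nat.cast_sum, h4, sub_self]

theorem st_agree {g g' : V →ₗ[F] V} {U : Submodule F V} (hU : Stb g U) (h : ∀ u ∈ U, g u = g' u) :
    f.st g U = f.st g' U :=
  f.st_congr (φ := LinearMap.id) hU (fun v hv => ⟨v, hv, rfl⟩) (fun u hu => hu) (fun u _ e => e)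
    (fun _ _ _ _ => rfl) (fun _ _ => rfl) (fun u hu => (h u hu).symm)

end Form

end Cfsg.Agent.StPolar
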